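import Mathlib

/-!
# Congruences between sums of two powers of two modulo `(2 ^ n - 1) / d`, for `d ∣ n`
-/

set_option autoImplicit false

namespace Cfsg.Agent.HigmanTransitive

theorem two_pow_add_eq {a b c e : ℕ} (h : 2 ^ a + 2 ^ b = 2 ^ c + 2 ^ e) :
    (a = c ∧ b = e) ∨ (a = e ∧ b = c) := by
  wlog hab : a ≤ b generalizing a b
  · rcases this (a := b) (b := a) (by rw [add_comm]; exact h) (by omega) with ⟨h1, h2⟩ | ⟨h1, h2⟩
    · exact Or.inr ⟨h2, h1⟩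
    · exact Or.inl ⟨h2, h1⟩
  wlog hce : c ≤ e generalizing c e
  · exact (this (c := e) (e := c) (by rw [add_comm (2 ^ e)]; exact h) (by omega)).symm
  have key : ∀ x y u v : ℕ, x ≤ y → 2 ^ x + 2 ^ y = 2 ^ u + 2 ^ v → ¬ y < v := by
    intro x y u v hxy he hlt
    have h1 : 2 ^ x ≤ 2 ^ y := Nat.pow_le_pow_right (by norm_num) hxy
    have h2 : 2 ^ (y + 1) ≤ 2 ^ v := Nat.pow_le_pow_right (by norm_num) hlt
    have h3 := Nat.two_pow_pos u
    rw [pow_succ] at h2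
    omega
  have h1 := key a b c e hab h
  have h2 := key c e a b hce h.symm
  obtain rfl : b = e := by omega
  exact Or.inl ⟨Nat.pow_right_injective le_rfl (Nat.add_right_cancel h), rfl⟩

theorem two_pow_modEq_mod (n x : ℕ) : 2 ^ x ≡ 2 ^ (x % n) [MOD 2 ^ n - 1] := by
  have h1 : 2 ^ n ≡ 1 [MOD 2 ^ n - 1] := ((Nat.modEq_iff_dvd' Nat.one_le_two_pow).2 dvd_rfl).symm
  conv_lhs => rw [← Nat.div_add_mod x n, pow_add, pow_mul]
  simpa using (h1.pow (x / n)).mul_right (2 ^ (x % n))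

/-- If `d < 2 ^ (n / 5)`, sums of two powers of two are determined modulo `(2 ^ n - 1) / d`. -/
theorem four_modEq {n d D : ℕ} (hdD : d * D = 2 ^ n - 1) (hd : d < 2 ^ (n / 5)) (hd0 : 0 < d)
    {a b c e : ℕ} (ha : a < n) (hb : b < n) (hc : c < n) (he : e < n)
    (h : 2 ^ a + 2 ^ b ≡ 2 ^ c + 2 ^ e [MOD D]) : (a = c ∧ b = e) ∨ (a = e ∧ b = c) := by
  classical
  set w := n / 5 with hw
  have hw1 : 1 ≤ w := by
    by_contra hh
    rw [show w = 0 by omega, pow_zero] at hd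
    omega
  have h5 : 5 * w ≤ n := Nat.mul_div_le n 5
  obtain ⟨i, hi5, hia, hib, hic, hie⟩ :
      ∃ i < 5, a / w ≠ i ∧ b / w ≠ i ∧ c / w ≠ i ∧ e / w ≠ i := by
    have hcard : ({a / w, b / w, c / w, e / w} : Finset ℕ).card < (Finset.range 5).card :=
      lt_of_le_of_lt Finset.card_le_four (by simp)
    obtain ⟨i, hi, hi'⟩ := Finset.exists_mem_notMem_of_card_lt_card hcard
    simp only [Finset.mem_insert, Finset.mem_singleton, not_or] at hi'
    exact ⟨i, Finset.mem_range.1 hi, Ne.symm hi'.1, Ne.symm hi'.2.1, Ne.symm hi'.2.2.1,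
      Ne.symm hi'.2.2.2⟩
  have hiw : (i + 1) * w ≤ n := le_trans (Nat.mul_le_mul_right w hi5) h5
  set s := n - (i + 1) * w with hs
  have hnext : (i + 1) * w = i * w + w := by ring
  have hbound : ∀ x < n, x / w ≠ i → (x + s) % n + 1 + w ≤ n := by
    intro x hx hxi
    rcases lt_or_gt_of_ne hxi with hlt | hgt
    · have h1 : x < i * w := (Nat.div_lt_iff_lt_mul (by omega)).1 hlt
      rw [Nat.mod_eq_of_lt (by omega)]
      omega
    · have h1 : (i + 1) * w ≤ x := (Nat.le_div_iff_mul_le (by omega)).1 hgt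
      have h2 : x + s = (x - (i + 1) * w) + n := by omega
      rw [h2, Nat.add_mod_right, Nat.mod_eq_of_lt (by omega)]
      omega
  have hrot : ∀ x y : ℕ, d * (2 ^ x + 2 ^ y) * 2 ^ s ≡
      d * (2 ^ ((x + s) % n) + 2 ^ ((y + s) % n)) [MOD 2 ^ n - 1] := by
    intro x y
    have : d * (2 ^ x + 2 ^ y) * 2 ^ s = d * (2 ^ (x + s) + 2 ^ (y + s)) := by ring
    rw [this]
    exact ((two_pow_modEq_mod n _).add (two_pow_modEq_mod n _)).mul_left d
  have h1 : d * (2 ^ ((a + s) % n) + 2 ^ ((b + s) % n)) ≡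
      d * (2 ^ ((c + s) % n) + 2 ^ ((e + s) % n)) [MOD 2 ^ n - 1] :=
    ((hrot a b).symm.trans ((hdD ▸ h.mul_left' d).mul_right (2 ^ s))).trans (hrot c e)
  have hlt : ∀ x y : ℕ, x + 1 + w ≤ n → y + 1 + w ≤ n → d * (2 ^ x + 2 ^ y) < 2 ^ n - 1 := by
    intro x y hx hy
    obtain ⟨m, hm⟩ : ∃ m, n = m + 1 + w := ⟨n - 1 - w, by omega⟩
    have h2 : 2 ^ x ≤ 2 ^ m := Nat.pow_le_pow_right (by norm_num) (by omega)
    have h3 : 2 ^ y ≤ 2 ^ m := Nat.pow_le_pow_right (by norm_num) (by omega)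
    have h4 : d * (2 ^ x + 2 ^ y) ≤ d * (2 * 2 ^ m) := Nat.mul_le_mul_left d (by omega)
    have h5 : (d + 1) * (2 * 2 ^ m) ≤ 2 ^ w * (2 * 2 ^ m) := Nat.mul_le_mul_right _ hd
    have h6 : 2 ^ n = 2 ^ w * (2 * 2 ^ m) := by rw [hm, pow_add, pow_succ]; ring
    have h7 : (d + 1) * (2 * 2 ^ m) = d * (2 * 2 ^ m) + 2 * 2 ^ m := by ring
    have h8 := Nat.two_pow_pos m
    omega
  have h2 := Nat.ModEq.eq_of_lt_of_lt h1 (hlt _ _ (hbound a ha hia) (hbound b hb hib))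
    (hlt _ _ (hbound c hc hic) (hbound e he hie))
  have h3 := two_pow_add_eq (Nat.eq_of_mul_eq_mul_left hd0 h2)
  have hinj : ∀ x y, x < n → y < n → (x + s) % n = (y + s) % n → x = y := by
    intro x y hx hy hxy
    have := Nat.ModEq.add_right_cancel' s hxy
    rwa [Nat.ModEq, Nat.mod_eq_of_lt hx, Nat.mod_eq_of_lt hy] at this
  exact h3.imp (fun h => ⟨hinj _ _ ha hc h.1, hinj _ _ hb he h.2⟩)
    (fun h => ⟨hinj _ _ ha he h.1, hinj _ _ hb hc h.2⟩)

/-- The parameters with `2 ^ (n / 5) ≤ d`. -/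
abbrev smallCases : List (ℕ × ℕ) := [(1, 1), (2, 1), (3, 1), (4, 1), (6, 3), (18, 9)]

set_option synthInstance.maxSize 2000 in
theorem lt_or_small {n d : ℕ} (hn : 0 < n) (hdn : d ∣ n) (hdq : d ∣ 2 ^ n - 1) :
    d < 2 ^ (n / 5) ∨ (n, d) ∈ smallCases := by
  by_cases h25 : 25 ≤ n
  · left
    have key : ∀ k, 5 ≤ k → 5 * k + 4 < 2 ^ k := by
      intro k hk
      induction k, hk using Nat.le_induction with
      | base => norm_num
      | succ m hm ih => rw [pow_succ]; omega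
    have h1 := key (n / 5) (by omega)
    have h2 := Nat.le_of_dvd hn hdn
    omega
  · have key : ∀ n < 25, ∀ d < 25, 0 < n → n % d = 0 → (2 ^ n - 1) % d = 0 →
        d < 2 ^ (n / 5) ∨ (n, d) ∈ smallCases := by decide
    exact key n (by omega) d (by have := Nat.le_of_dvd hn hdn; omega) hn
      (Nat.mod_eq_zero_of_dvd hdn) (Nat.mod_eq_zero_of_dvd hdq)

theorem small_conj : ∀ p ∈ smallCases, ∀ r < p.1, ∀ l < p.1, ∀ l' < p.1,
    (2 ^ r + 2 ^ l) % ((2 ^ p.1 - 1) / p.2) = (1 + 2 ^ ((l' + r) % p.1)) % ((2 ^ p.1 - 1) / p.2) →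
      2 ≤ p.1 → l = l' := by decide

theorem small_pair : ∀ p ∈ smallCases, ∀ r < p.1, ∀ l < p.1,
    (2 ^ r + 2 ^ l) % ((2 ^ p.1 - 1) / p.2) = 1 % ((2 ^ p.1 - 1) / p.2) →
      2 ≤ p.1 → l = p.1 - 1 := by decide

/-- The scalars `Λ / Λ ^ (2 ^ l)` are pairwise non-conjugate. -/
theorem conj_unique {n d D : ℕ} (hn : 2 ≤ n) (hdD : d * D = 2 ^ n - 1) (hdn : d ∣ n) {r l l' : ℕ}
    (hr : r < n) (hl : l < n) (hl' : l' < n)
    (h : 2 ^ r + 2 ^ l ≡ 1 + 2 ^ ((l' + r) % n) [MOD D]) : l = l' := by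
  have hd0 : 0 < d := Nat.pos_of_dvd_of_pos hdn (by omega)
  rcases lt_or_small (by omega) hdn ⟨D, hdD.symm⟩ with hd | hs
  · have := four_modEq hdD hd hd0 hr hl (by omega) (Nat.mod_lt _ (by omega))
      (show 2 ^ r + 2 ^ l ≡ 2 ^ 0 + 2 ^ ((l' + r) % n) [MOD D] by rwa [pow_zero])
    rcases this with ⟨h1, h2⟩ | ⟨h1, h2⟩
    · rw [h2, h1, add_zero, Nat.mod_eq_of_lt hl']
    · have h3 : (0 + r) % n = (l' + r) % n := by rw [zero_add, Nat.mod_eq_of_lt hr]; exact h1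
      have h4 := Nat.ModEq.add_right_cancel' r h3
      rw [Nat.ModEq, Nat.zero_mod, Nat.mod_eq_of_lt hl'] at h4
      omega
  · refine small_conj _ hs r hr l hl l' hl' ?_ hn
    have hD : (2 ^ n - 1) / d = D := by rw [← hdD, Nat.mul_div_cancel_left _ hd0]
    simp only [hD]
    exact h

/-- The only pair of Frobenius powers whose product is the identity on the scalars. -/
theorem pair_unique {n d D : ℕ} (hn : 2 ≤ n) (hdD : d * D = 2 ^ n - 1) (hdn : d ∣ n) {r l : ℕ}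
    (hr : r < n) (hl : l < n) (h : 2 ^ r + 2 ^ l ≡ 1 [MOD D]) : l = n - 1 := by
  have hd0 : 0 < d := Nat.pos_of_dvd_of_pos hdn (by omega)
  rcases lt_or_small (by omega) hdn ⟨D, hdD.symm⟩ with hd | hs
  · have hsucc : ∀ x : ℕ, 2 ^ ((x + 1) % n) ≡ 2 ^ x * 2 [MOD D] := fun x => by
      rw [← pow_succ]
      exact ((two_pow_modEq_mod n (x + 1)).of_dvd ⟨d, by rw [← hdD, mul_comm]⟩).symm
    have h1 : 2 ^ ((r + 1) % n) + 2 ^ ((l + 1) % n) ≡ 2 ^ 0 + 2 ^ 0 [MOD D] := by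
      refine ((hsucc r).add (hsucc l)).trans ?_
      rw [← add_mul]
      exact h.mul_right 2
    have h2 : (l + 1) % n = 0 := by
      rcases four_modEq hdD hd hd0 (Nat.mod_lt _ (by omega)) (Nat.mod_lt _ (by omega)) (by omega)
        (by omega) h1 with ⟨-, h2⟩ | ⟨-, h2⟩ <;> exact h2
    by_contra hne
    rw [Nat.mod_eq_of_lt (by omega)] at h2
    omega
  · refine small_pair _ hs r hr l hl ?_ hn
    have hD : (2 ^ n - 1) / d = D := by rw [← hdD, Nat.mul_div_cancel_left _ hd0]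
    simp only [hD]
    exact h

end Cfsg.Agent.HigmanTransitive
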