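import Cfsg.Agent.Lib.HigmanTransitive.Setup

/-!
# Existence of the data: Huppert's theorem
-/

set_option autoImplicit false
set_option linter.style.haveILetI false

namespace Cfsg.Agent.HigmanTransitive

open Cfsg.Agent.SuzukiTwo Cfsg.Agent.SolvableTransitive

universe u

theorem central_of_transitive {G : Type u} [Group G] [Finite G] (hG : IsPGroup 2 G)
    (Y : Subgroup (MulAut G))
    (htr : ∀ x y : G, x ≠ 1 → x ^ 2 = 1 → y ≠ 1 → y ^ 2 = 1 → ∃ a ∈ Y, a x = y)
    {x : G} (hx : x * x = 1) (g : G) : g * x = x * g := by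
  by_cases hx1 : x = 1
  · simp [hx1]
  have : Fact (Nat.Prime 2) := ⟨Nat.prime_two⟩
  have : Nontrivial G := ⟨⟨x, 1, hx1⟩⟩
  have : Nontrivial (Subgroup.center G) := hG.center_nontrivial
  obtain ⟨⟨z, hz⟩, hz1⟩ := exists_ne (1 : Subgroup.center G)
  obtain ⟨j, hj1, hj2⟩ := exists_pow_boundary hG ⊥ (x := z)
    (by simpa using fun e => hz1 (Subtype.ext e))
  rw [Subgroup.mem_bot] at hj1 hj2
  obtain ⟨k, -, hk⟩ := htr (z ^ 2 ^ j) x hj1 (by rw [sq]; exact hj2) hx1 (by rw [sq]; exact hx)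
  rw [← hk]
  obtain ⟨g, rfl⟩ := k.surjective g
  rw [← map_mul, ← map_mul, Subgroup.mem_center_iff.1 (pow_mem hz _) g]

set_option maxHeartbeats 1000000 in
theorem exists_dat {G : Type u} [Group G] [Finite G] (hG : IsPGroup 2 G)
    (htwo : ∃ x y : G, x ≠ y ∧ x ≠ 1 ∧ x ^ 2 = 1 ∧ y ≠ 1 ∧ y ^ 2 = 1)
    (hY : ∃ Y : Subgroup (MulAut G), Group.IsSolvable Y ∧
      ∀ x y : G, x ≠ 1 → x ^ 2 = 1 → y ≠ 1 → y ^ 2 = 1 → ∃ a ∈ Y, a x = y) :
    ∃ (F : Type u) (_ : Field F) (_ : Fintype F) (_ : CharP F 2), Nonempty (Dat G F) := by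
  classical
  have h2 : Fact (Nat.Prime 2) := ⟨Nat.prime_two⟩
  obtain ⟨Y, hYs, htr⟩ := hY
  obtain ⟨x₀, y₀, hxy, hx, hx', hy, hy'⟩ := htwo
  have hcen : ∀ {x : G}, x * x = 1 → ∀ g, g * x = x * g := fun hx =>
    central_of_transitive hG Y htr hx
  -- the involutions
  let V : Subgroup G :=
    { carrier := {x | x * x = 1}
      one_mem' := by simp
      mul_mem' := fun {a b} ha hb => by
        show a * b * (a * b) = 1
        rw [Commute.mul_mul_mul_comm (hcen ha b : Commute b a), ha, hb, one_mul]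
      inv_mem' := fun {a} ha => by
        show a⁻¹ * a⁻¹ = 1
        rw [← mul_inv_rev, ha, inv_one] }
  letI : CommGroup ↥V :=
    { (inferInstance : Group ↥V) with mul_comm := fun a b => Subtype.ext (hcen b.2 a) }
  have hfix : ∀ (k : ↥Y) (x : ↥V), (k : MulAut G) x ∈ V := fun k x => by
    show (k : MulAut G) x * (k : MulAut G) x = 1
    rw [← map_mul, x.2, map_one]
  let res : ↥Y →* MulAut ↥V :=
    { toFun := fun k =>
        { toFun := fun x => ⟨(k : MulAut G) x, hfix k x⟩
          invFun := fun x => ⟨((k⁻¹ : ↥Y) : MulAut G) x, hfix k⁻¹ x⟩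
          left_inv := fun x => Subtype.ext (by simp)
          right_inv := fun x => Subtype.ext (by simp)
          map_mul' := fun x y => Subtype.ext (map_mul (k : MulAut G) _ _) }
      map_one' := MulEquiv.ext fun x => rfl
      map_mul' := fun k l => MulEquiv.ext fun x => rfl }
  letI : DistribMulAction ↥res.range (Additive ↥V) :=
    { smul := fun g a => Additive.ofMul ((g : MulAut ↥V) a.toMul)
      one_smul := fun a => rfl
      mul_smul := fun g h a => rfl
      smul_zero := fun g => congrArg Additive.ofMul (map_one (g : MulAut ↥V))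
      smul_add := fun g a b => congrArg Additive.ofMul (map_mul (g : MulAut ↥V) a.toMul b.toMul) }
  haveI : FaithfulSMul ↥res.range (Additive ↥V) := ⟨fun {g h} hgh => Subtype.ext
    (MulEquiv.ext fun x => congrArg Additive.toMul (hgh (Additive.ofMul x)))⟩
  haveI : Finite (Additive ↥V) := inferInstanceAs (Finite ↥V)
  haveI : Finite (MulAut ↥V) := Finite.of_injective _ DFunLike.coe_injective
  haveI : Group.IsSolvable ↥Y := hYs
  have hsol : Group.IsSolvable ↥res.range :=
    solvable_of_surjective (f := res.rangeRestrict) res.rangeRestrict_surjective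
  have hne1 : ∀ {a : Additive ↥V}, a ≠ 0 → ((a.toMul : ↥V) : G) ≠ 1 := fun {a} ha e =>
    ha (congrArg Additive.ofMul (Subtype.ext e : (a.toMul : ↥V) = 1))
  haveI : Nontrivial (Additive ↥V) :=
    ⟨⟨Additive.ofMul ⟨x₀, by show x₀ * x₀ = 1; rw [← sq]; exact hx'⟩, 0,
      fun e => hx (congrArg (fun a : Additive ↥V => ((a.toMul : ↥V) : G)) e)⟩⟩
  have hVtwo : ∀ v : Additive ↥V, 2 • v = 0 := fun v => by
    rw [two_nsmul]
    exact congrArg Additive.ofMul (Subtype.ext (v.toMul).2 : v.toMul * v.toMul = 1)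
  have htrans : ∀ a b : Additive ↥V, a ≠ 0 → b ≠ 0 → ∃ g : ↥res.range, g • a = b := by
    intro a b ha hb
    obtain ⟨k, hk, hkab⟩ := htr _ _ (hne1 ha) (by rw [sq]; exact (a.toMul).2) (hne1 hb)
      (by rw [sq]; exact (b.toMul).2)
    exact ⟨⟨res ⟨k, hk⟩, ⟨k, hk⟩, rfl⟩, congrArg Additive.ofMul (Subtype.ext hkab)⟩
  have hVp : IsPGroup 2 ↥V := hG.to_subgroup V
  obtain ⟨n, hn⟩ := IsPGroup.iff_card.1 hVp
  have hcardV : Nat.card (Additive ↥V) = 2 ^ n := by
    rw [← hn]; exact Nat.card_congr Additive.toMul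
  have hn2 : 2 ≤ n := by
    let _ := Fintype.ofFinite ↥V
    have h3 : 3 ≤ Nat.card ↥V := by
      rw [Nat.card_eq_fintype_card]
      calc 3 = ({1, ⟨x₀, by show x₀ * x₀ = 1; rw [← sq]; exact hx'⟩,
            ⟨y₀, by show y₀ * y₀ = 1; rw [← sq]; exact hy'⟩} : Finset ↥V).card := by
            rw [Finset.card_insert_of_notMem, Finset.card_pair]
            · exact fun e => hxy (congrArg Subtype.val e)
            · simp only [Finset.mem_insert, Finset.mem_singleton, Subtype.ext_iff, not_or,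
                OneMemClass.coe_one]
              exact ⟨Ne.symm hx, Ne.symm hy⟩
        _ ≤ _ := Finset.card_le_univ _
    rw [hn] at h3
    by_contra hlt
    rcases n with _ | _ | m <;> simp_all
  -- the field
  obtain ⟨A, hAn, hA, hCA, hspan⟩ : ∃ A : Subgroup ↥res.range, A.Normal ∧ IsMulCommutative ↥A ∧
      Subgroup.centralizer (A : Set ↥res.range) = A ∧
      ∀ v w : Additive ↥V, v ≠ 0 → ∃ x ∈ spanRing (Additive ↥V) A, x v = w := by
    rcases selfCentralizing_or_exception hsol Nat.prime_two hVtwo htrans with h | h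
    · exact h
    · exfalso
      have h4 : 2 ∣ 2 ^ n := dvd_pow_self 2 (by omega)
      rw [hcardV] at h
      simp only [Set.mem_insert_iff, Set.mem_singleton_iff] at h
      omega
  have : A.Normal := hAn
  haveI hAEnd : Finite (AddMonoid.End (Additive ↥V)) :=
    Finite.of_injective (fun f => (f : Additive ↥V → Additive ↥V)) DFunLike.coe_injective
  have hF := isField_spanRing htrans hA (V := Additive ↥V)
  letI : Field ↥(spanRing (Additive ↥V) A) := hF.toField
  letI : Fintype ↥(spanRing (Additive ↥V) A) := Fintype.ofFinite _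
  obtain ⟨v₀, hv₀⟩ := exists_ne (0 : Additive ↥V)
  let ev : ↥(spanRing (Additive ↥V) A) →+ Additive ↥V :=
    AddMonoidHom.mk' (fun x => (x : AddMonoid.End (Additive ↥V)) v₀) fun _ _ => rfl
  have hevb : Function.Bijective ev := by
    refine ⟨(injective_iff_map_eq_zero ev).2 fun x hx =>
      Subtype.ext (eq_zero_of_apply_eq_zero htrans hA x.2 hv₀ hx), fun w => ?_⟩
    obtain ⟨x, hx, hxw⟩ := hspan v₀ w hv₀
    exact ⟨⟨x, hx⟩, hxw⟩
  let E : ↥(spanRing (Additive ↥V) A) ≃+ Additive ↥V := AddEquiv.ofBijective ev hevb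
  have hchar : CharP ↥(spanRing (Additive ↥V) A) 2 :=
    CharTwo.of_one_ne_zero_of_two_eq_zero one_ne_zero (hevb.1 (by
      rw [show (2 : ↥(spanRing (Additive ↥V) A)) = 1 + 1 from one_add_one_eq_two.symm, map_add,
        map_zero, ← two_nsmul, hVtwo]))
  have hFcard : Fintype.card ↥(spanRing (Additive ↥V) A) = 2 ^ n := by
    rw [← Nat.card_eq_fintype_card, Nat.card_congr E.toEquiv, hcardV]
  -- the scalars
  let χ : ↥A →* (↥(spanRing (Additive ↥V) A))ˣ :=
    MonoidHom.toHomUnits (((toEnd (Additive ↥V)).comp A.subtype).codRestrict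
      (spanRing (Additive ↥V) A) fun a => toEnd_mem_spanRing a.2)
  have hχinj : Function.Injective χ := fun a b h => by
    refine Subtype.ext (toEnd_injective (V := Additive ↥V) ?_)
    exact congrArg (fun u : (↥(spanRing (Additive ↥V) A))ˣ =>
      ((u : ↥(spanRing (Additive ↥V) A)) : AddMonoid.End (Additive ↥V))) h
  haveI : IsCyclic ↥A := isCyclic_of_injective χ hχinj
  obtain ⟨a₀, ha₀⟩ := IsCyclic.exists_generator (α := ↥A)
  set Λ := χ a₀ with hΛ
  have hord : orderOf Λ = Nat.card ↥A := by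
    rw [hΛ, orderOf_injective χ hχinj, orderOf_eq_card_of_forall_mem_zpowers ha₀]
  -- the automorphism of odd order
  obtain ⟨y, hy⟩ := (a₀ : ↥res.range).2
  set D := orderOf Λ with hD
  have hDdvd : D ∣ 2 ^ n - 1 := by
    have := orderOf_dvd_natCard Λ
    rwa [Nat.card_units, Nat.card_eq_fintype_card, hFcard] at this
  have hDodd : Nat.Coprime 2 D := by
    refine Nat.prime_two.coprime_iff_not_dvd.2 fun h => ?_
    have h1 := h.trans hDdvd
    have h2 : 2 ∣ 2 ^ n := dvd_pow_self 2 (by omega)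
    have h3 := Nat.one_le_two_pow (n := n)
    omega
  obtain ⟨e, m, hm, hem⟩ := Nat.exists_eq_pow_mul_and_not_dvd (n := orderOf y)
    (orderOf_pos y).ne' 2 (by norm_num)
  obtain ⟨j, hj⟩ := Nat.chineseRemainder (Nat.Coprime.pow_left e hDodd) 0 1
  have hresy : res (y ^ j) = (a₀ : ↥res.range) := by
    rw [map_pow, hy]
    have h1 : a₀ ^ j = a₀ := by
      conv_rhs => rw [← pow_one a₀]
      refine pow_eq_pow_iff_modEq.2 ?_
      rw [orderOf_eq_card_of_forall_mem_zpowers ha₀, ← hord]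
      exact hj.2
    exact congrArg (fun a : ↥A => ((a : ↥res.range) : MulAut ↥V)) h1
  have hgen : ∀ R : Subring ↥(spanRing (Additive ↥V) A),
      (Λ : ↥(spanRing (Additive ↥V) A)) ∈ R → ∀ c, c ∈ R := by
    intro R hR c
    have hle : spanRing (Additive ↥V) A ≤ R.map (spanRing (Additive ↥V) A).subtype := by
      refine Subring.closure_le.2 ?_
      rintro _ ⟨a, ha, rfl⟩
      obtain ⟨k, hk⟩ := (mem_powers_iff_mem_zpowers.2 (ha₀ ⟨a, ha⟩) :)
      refine ⟨(Λ : ↥(spanRing (Additive ↥V) A)) ^ k, pow_mem hR k, ?_⟩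
      simp only [Subring.coe_subtype, SubmonoidClass.coe_pow]
      show toEnd (Additive ↥V) (a₀ : ↥res.range) ^ k = toEnd (Additive ↥V) a
      rw [← map_pow]
      exact congrArg _ (congrArg Subtype.val hk)
    obtain ⟨c', hc', hcc⟩ := hle c.2
    rwa [← Subtype.ext hcc]
  -- the index
  have hidx : A.index ∣ n := by
    have h := index_dvd_of_ker (R := ↥(spanRing (Additive ↥V) A)) 2 (d := n)
      (by rw [Nat.card_eq_fintype_card, hFcard]) (galois (Additive ↥V) A)
    rwa [ker_galois, hCA] at h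
  have hdvd : 2 ^ n - 1 ∣ D * A.index := by
    rw [hord, Subgroup.card_mul_index, ← hcardV]
    exact card_pred_dvd htrans
  obtain ⟨d, hd⟩ := hDdvd
  have hdn : d ∣ n := by
    refine Nat.dvd_trans ?_ hidx
    have hD0 : 0 < D := orderOf_pos Λ
    rw [hd] at hdvd
    exact (Nat.mul_dvd_mul_iff_left hD0).1 hdvd
  let toF : G → ↥(spanRing (Additive ↥V) A) := fun x =>
    if h : x * x = 1 then E.symm (Additive.ofMul ⟨x, h⟩) else 0
  have hto : ∀ {x : G} (h : x * x = 1), toF x = E.symm (Additive.ofMul (⟨x, h⟩ : ↥V)) :=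
    fun h => dif_pos h
  refine ⟨↥(spanRing (Additive ↥V) A), inferInstance, inferInstance, hchar, ⟨
    { n := n
      hn := hn2
      hcard := hFcard
      pgroup := hG
      central := hcen
      toF := toF
      ofF := fun c => ((E c).toMul : ↥V)
      toF_mul := ?_
      ofF_sq := fun c => ((E c).toMul).2
      toF_ofF := ?_
      ofF_toF := ?_
      α := ((y ^ j : ↥Y) : MulAut G)
      Λ := Λ
      toF_α := ?_
      gen := hgen
      d := d
      d_mul := by rw [mul_comm]; exact hd.symm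
      d_dvd := hdn }⟩⟩
  · intro a b ha hb
    have hab : a * b * (a * b) = 1 := V.mul_mem ha hb
    rw [hto ha, hto hb, hto hab, ← map_add]
    rfl
  · intro c
    rw [hto ((E c).toMul).2]
    exact E.symm_apply_apply c
  · intro x hx
    rw [hto hx, E.apply_symm_apply]
    rfl
  · intro x hx
    have hax : (((y ^ j : ↥Y) : MulAut G) x) * (((y ^ j : ↥Y) : MulAut G) x) = 1 :=
      hfix _ ⟨x, hx⟩
    rw [hto hx, hto hax, AddEquiv.symm_apply_eq]
    show _ = ((Λ : ↥(spanRing (Additive ↥V) A)) * E.symm (Additive.ofMul ⟨x, hx⟩) :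
      AddMonoid.End (Additive ↥V)) v₀
    rw [show ((E.symm (Additive.ofMul ⟨x, hx⟩) : ↥(spanRing (Additive ↥V) A)) :
      AddMonoid.End (Additive ↥V)) = _ from rfl]
    show _ = (a₀ : ↥res.range) • (E (E.symm (Additive.ofMul (⟨x, hx⟩ : ↥V))))
    rw [E.apply_symm_apply]
    refine congrArg Additive.ofMul (Subtype.ext ?_)
    show _ = (((a₀ : ↥res.range) : MulAut ↥V) (⟨x, hx⟩ : ↥V) : G)
    rw [← hresy]
    rfl

end Cfsg.Agent.HigmanTransitive
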