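import Cfsg.Agent.Lib.HigmanTransitive.Pure

/-!
# Maximal invariant abelian normal subgroups, and the structure theorem

`conclusion`: if `Dat G F` exists and `G` is non-abelian then squares and commutators are central
involutions and the centre consists of the elements squaring to one.
-/

set_option autoImplicit false
set_option linter.unusedSectionVars false

namespace Cfsg.Agent.HigmanTransitive

open Cfsg.Agent.SuzukiTwo

variable {G : Type*} [Group G] [Finite G] {F : Type*} [Field F] [Fintype F] [CharP F 2]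

/-- Squares are multiplicative on an abelian subgroup. -/
theorem sq_mul {A : Subgroup G} (hab : ∀ a ∈ A, ∀ b ∈ A, a * b = b * a) {a b : G} (ha : a ∈ A)
    (hb : b ∈ A) : a * b * (a * b) = a * a * (b * b) :=
  Commute.mul_mul_mul_comm (hab b hb a ha : Commute b a) a b

/-- `{u | u * u ∈ A, [u, G] ⊆ A}`. -/
def sqUpper (A : Subgroup G) [hA : A.Normal] : Subgroup G where
  carrier := {u | u * u ∈ A ∧ u ∈ upper A}
  one_mem' := ⟨by simp [one_mem], one_mem _⟩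
  mul_mem' := by
    rintro u v ⟨hu, hu'⟩ ⟨hv, hv'⟩
    refine ⟨?_, mul_mem hu' hv'⟩
    rw [show u * v * (u * v) = u * cm v u * u⁻¹ * (u * u) * (v * v) by simp [cm, mul_assoc]]
    exact mul_mem (mul_mem (hA.conj_mem _ (hv' u) u) hu) hv
  inv_mem' := by
    rintro u ⟨hu, hu'⟩
    exact ⟨by rw [← mul_inv_rev]; exact inv_mem hu, inv_mem hu'⟩

theorem mem_sqUpper {A : Subgroup G} [A.Normal] {u : G} :
    u ∈ sqUpper A ↔ u * u ∈ A ∧ u ∈ upper A := Iff.rfl

instance sqUpper_normal (A : Subgroup G) [hA : A.Normal] : (sqUpper A).Normal := by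
  refine ⟨fun x hx p => ⟨?_, (upper_normal A).conj_mem _ hx.2 p⟩⟩
  rw [show p * x * p⁻¹ * (p * x * p⁻¹) = p * (x * x) * p⁻¹ by simp [mul_assoc]]
  exact hA.conj_mem _ hx.1 p

namespace Dat

variable {Δ : Dat G F}

theorem Inv.symm {H : Subgroup G} (hH : Δ.Inv H) {x : G} (hx : x ∈ H) : Δ.α.symm x ∈ H := by
  let f : H → H := fun m => ⟨Δ.α m, hH _ m.2⟩
  have hinj : Function.Injective f := fun a b h =>
    Subtype.ext (Δ.α.injective (congrArg Subtype.val h))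
  obtain ⟨m, hm⟩ := Finite.surjective_of_injective hinj ⟨x, hx⟩
  have hm' : Δ.α m = x := congrArg Subtype.val hm
  rw [← hm', MulEquiv.symm_apply_apply]
  exact m.2

theorem inv_sqUpper {A : Subgroup G} [A.Normal] (hA : Δ.Inv A) : Δ.Inv (sqUpper A) := by
  rintro x ⟨hx, hx'⟩
  refine ⟨by rw [← map_mul]; exact hA _ hx, fun g => ?_⟩
  have := hA _ (hx' (Δ.α.symm g))
  rwa [map_cm, MulEquiv.apply_symm_apply] at this

theorem inv_centralizer {A : Subgroup G} (hA : Δ.Inv A) :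
    Δ.Inv (Subgroup.centralizer (A : Set G)) := by
  intro x hx a ha
  have := congrArg Δ.α (hx _ (hA.symm ha))
  simpa [map_mul] using this

theorem exists_sqUpper (hp : IsPGroup 2 G) {A D : Subgroup G} [A.Normal] [D.Normal] {x : G} (hx : x ∈ D) (hxA : x ∉ A) :
    ∃ u ∈ D, u ∈ sqUpper A ∧ u ∉ A := by
  obtain ⟨y, hyD, hyA, hyu⟩ := exists_mem_upper hp hx hxA
  obtain ⟨j, hj1, hj2⟩ := exists_pow_boundary hp A hyA
  exact ⟨y ^ 2 ^ j, pow_mem hyD _, ⟨hj2, pow_mem hyu _⟩, hj1⟩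

end Dat

/-- A maximal abelian normal invariant subgroup of exponent `2 ^ k`. -/
structure Max (Δ : Dat G F) (B : Subgroup G) (k : ℕ) : Prop where
  normal : B.Normal
  inv : Δ.Inv B
  comm : ∀ a ∈ B, ∀ b ∈ B, a * b = b * a
  le : ∀ x : G, x * x = 1 → x ∈ B
  center_le : Subgroup.center G ≤ B
  one_le : 1 ≤ k
  exp : ∀ b ∈ B, b ^ 2 ^ k = 1
  exact_exp : ∃ b ∈ B, b ^ 2 ^ (k - 1) ≠ 1
  max : ∀ H : Subgroup G, H.Normal → Δ.Inv H → (∀ a ∈ H, ∀ b ∈ H, a * b = b * a) → B ≤ H → H = B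

namespace Dat

variable (Δ : Dat G F)

theorem center_inv : Δ.Inv (Subgroup.center G) := fun x hx =>
  Subgroup.mem_center_iff.2 fun g => by
    obtain ⟨g, rfl⟩ := Δ.α.surjective g
    rw [← map_mul, ← map_mul, Subgroup.mem_center_iff.1 hx g]

theorem exists_max : ∃ B k, Max Δ B k := by
  classical
  let S : Set (Subgroup G) := {H | H.Normal ∧ Δ.Inv H ∧ (∀ a ∈ H, ∀ b ∈ H, a * b = b * a) ∧
    Subgroup.center G ≤ H}
  have hne : S.Nonempty := ⟨Subgroup.center G, inferInstance, Δ.center_inv,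
    fun a _ b hb => Subgroup.mem_center_iff.1 hb a, le_rfl⟩
  have : Finite (Subgroup G) := Finite.of_injective _ SetLike.coe_injective
  obtain ⟨B, ⟨hBn, hBi, hBc, hBz⟩, hmax⟩ := (Set.toFinite S).exists_maximal hne
  have hle : ∀ x : G, x * x = 1 → x ∈ B := fun x hx =>
    hBz (Subgroup.mem_center_iff.2 fun g => Δ.central hx g)
  have hex : ∃ k, ∀ b ∈ B, b ^ 2 ^ k = 1 := by
    have : Fact (Nat.Prime 2) := ⟨Nat.prime_two⟩
    obtain ⟨m, hm⟩ := IsPGroup.iff_card.1 Δ.pgroup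
    exact ⟨m, fun b _ => by rw [← hm]; exact pow_card_eq_one'⟩
  have h1 : Δ.ofF 1 ∈ B := hle _ (Δ.ofF_sq 1)
  have h1' : Δ.ofF 1 ≠ 1 := fun h => one_ne_zero (α := F)
    (by rw [← Δ.toF_ofF 1, h, Δ.toF_one])
  have hk : 1 ≤ Nat.find hex := by
    by_contra h
    exact h1' (by simpa [show Nat.find hex = 0 by omega] using Nat.find_spec hex _ h1)
  refine ⟨B, Nat.find hex, hBn, hBi, hBc, hle, hBz, hk, Nat.find_spec hex, ?_,
    fun H hn hi hc hBH => le_antisymm (hmax ⟨hn, hi, hc, hBz.trans hBH⟩ hBH) hBH⟩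
  have := Nat.find_min hex (m := Nat.find hex - 1) (by omega)
  push Not at this
  exact this

end Dat

namespace Max

variable {Δ : Dat G F} {B : Subgroup G} {k : ℕ}

theorem mul_pow (M : Max Δ B k) {a b : G} (ha : a ∈ B) (hb : b ∈ B) (m : ℕ) :
    (a * b) ^ m = a ^ m * b ^ m := Commute.mul_pow (M.comm a ha b hb) m

/-- All involutions are `2 ^ (k - 1)`-th powers. -/
theorem top (M : Max Δ B k) {z : G} (hz : z * z = 1) : ∃ b ∈ B, b ^ 2 ^ (k - 1) = z := by
  let H : Subgroup G :=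
    { carrier := {z | ∃ b ∈ B, b ^ 2 ^ (k - 1) = z}
      one_mem' := ⟨1, one_mem B, one_pow _⟩
      mul_mem' := by
        rintro _ _ ⟨a, ha, rfl⟩ ⟨b, hb, rfl⟩
        exact ⟨a * b, mul_mem ha hb, M.mul_pow ha hb _⟩
      inv_mem' := by
        rintro _ ⟨a, ha, rfl⟩
        exact ⟨a⁻¹, inv_mem ha, inv_pow _ _⟩ }
  have hH : Δ.Inv H := by
    rintro _ ⟨a, ha, rfl⟩
    exact ⟨Δ.α a, M.inv a ha, (map_pow _ _ _).symm⟩
  obtain ⟨b, hb, hb1⟩ := M.exact_exp
  refine Δ.sq_mem_of_inv hH ⟨b, hb, rfl⟩ hb1 ?_ hz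
  rw [← pow_add, ← two_mul, ← pow_succ', Nat.sub_add_cancel M.one_le]
  exact M.exp b hb

/-- Roots inside `B`. -/
theorem root (M : Max Δ B k) : ∀ i, i ≤ k → ∀ b ∈ B, b ^ 2 ^ i = 1 →
    ∃ c ∈ B, c ^ 2 ^ (k - i) = b := by
  intro i
  induction i with
  | zero => intro _ b _ hb1; exact ⟨1, one_mem B, by rw [one_pow]; simpa using hb1.symm⟩
  | succ i ih =>
    intro hik b hb hb1
    obtain ⟨c, hc, hcz⟩ := M.top (z := b ^ 2 ^ i) (by rw [← pow_add, ← two_mul, ← pow_succ']; exact hb1)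
    have hexp : 2 ^ (k - 1) = 2 ^ (k - (i + 1)) * 2 ^ i := by
      rw [← pow_add]; congr 1; omega
    have hc' : c ^ 2 ^ (k - (i + 1)) ∈ B := pow_mem hc _
    obtain ⟨e, he, hee⟩ := ih (by omega) (b * (c ^ 2 ^ (k - (i + 1)))⁻¹) (mul_mem hb (inv_mem hc'))
      (by rw [M.mul_pow hb (inv_mem hc'), inv_pow, ← pow_mul, ← hexp, hcz, mul_inv_cancel])
    refine ⟨e ^ 2 * c, mul_mem (pow_mem he _) hc, ?_⟩
    rw [M.mul_pow (pow_mem he _) hc, ← pow_mul, ← pow_succ',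
      show k - (i + 1) + 1 = k - i by omega, hee, inv_mul_cancel_right]

theorem two_root (M : Max Δ B k) {b : G} (hb : b ∈ B) (hb1 : b ^ 2 ^ (k - 1) = 1) :
    ∃ c ∈ B, c * c = b := by
  obtain ⟨c, hc, hcb⟩ := M.root (k - 1) (by omega) b hb hb1
  rw [show k - (k - 1) = 1 by have := M.one_le; omega, pow_one, sq] at hcb
  exact ⟨c, hc, hcb⟩

theorem cm_right (M : Max Δ B k) (g : G) {a b : G} (ha : a ∈ B) (hb : b ∈ B) :
    cm g (a * b) = cm g a * cm g b := by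
  have := M.normal
  have hc : cm g b ∈ B := mul_mem (M.normal.conj_mem b hb g) (inv_mem hb)
  rw [cm_mul_right, M.comm a ha _ hc, mul_inv_cancel_right]

theorem cm_mem (M : Max Δ B k) (g : G) {b : G} (hb : b ∈ B) : cm g b ∈ B :=
  mul_mem (M.normal.conj_mem b hb g) (inv_mem hb)

theorem cm_pow (M : Max Δ B k) (g : G) {b : G} (hb : b ∈ B) (m : ℕ) : cm g (b ^ m) = cm g b ^ m := by
  induction m with
  | zero => simp [cm]
  | succ m ih => rw [pow_succ, M.cm_right g (pow_mem hb _) hb, ih, pow_succ]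

omit [CharP F 2] in
theorem cm_inv_one (Δ : Dat G F) (g : G) {z : G} (hz : z * z = 1) : cm g z = 1 :=
  cm_eq_one.2 (Δ.central hz g)

omit [CharP F 2] in
theorem conj_inv (Δ : Dat G F) (g : G) {z : G} (hz : z * z = 1) : g * z * g⁻¹ = z := by
  rw [Δ.central hz g, mul_inv_cancel_right]

theorem two_pow_sq (M : Max Δ B k) {b : G} (hb : b ∈ B) :
    b ^ 2 ^ (k - 1) * b ^ 2 ^ (k - 1) = 1 := by
  rw [← pow_add, ← two_mul, ← pow_succ', Nat.sub_add_cancel M.one_le]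
  exact M.exp b hb

theorem exists_preimage (M : Max Δ B k) (c : F) : ∃ b ∈ B, Δ.toF (b ^ 2 ^ (k - 1)) = c := by
  obtain ⟨b, hb, hbc⟩ := M.top (Δ.ofF_sq c)
  exact ⟨b, hb, by rw [hbc, Δ.toF_ofF]⟩

/-- With exponent at least four, `B` is self-centralizing. -/
theorem centralizer_le (M : Max Δ B k) (hk : 2 ≤ k) : Subgroup.centralizer (B : Set G) ≤ B := by
  have := M.normal
  intro x hx
  by_contra hxB
  have : (Subgroup.centralizer (B : Set G)).Normal := inferInstance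
  obtain ⟨u₀, hu₀C, hu₀U, hu₀B⟩ :=
    Dat.exists_sqUpper Δ.pgroup (A := B) (D := Subgroup.centralizer (B : Set G)) hx hxB
  set U := Subgroup.centralizer (B : Set G) ⊓ sqUpper B with hU
  have hUn : U.Normal := inferInstanceAs (_ ⊓ sqUpper B : Subgroup G).Normal
  have hUi : Δ.Inv U := fun y hy => ⟨Dat.inv_centralizer M.inv y hy.1, Dat.inv_sqUpper M.inv y hy.2⟩
  have hBU : B ≤ U := fun b hb => ⟨fun a ha => M.comm a ha b hb,
    mul_mem hb hb, fun g => by rw [← cm_inv]; exact inv_mem (M.cm_mem g hb)⟩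
  have hz : ∀ g ∈ U, ∀ h ∈ U, cm g h ∈ B ∧ cm g h * cm g h = 1 := by
    intro g hg h hh
    have hcB : cm g h ∈ B := hg.2.2 h
    refine ⟨hcB, ?_⟩
    have h1 : cm (g * g) h = 1 := cm_eq_one.2 (hh.1 _ hg.2.1)
    have h2 : g * cm g h * g⁻¹ = cm g h := by rw [← hg.1 _ hcB, mul_inv_cancel_right]
    rwa [cm_mul_left, h2] at h1
  let s : G → F := fun u => Δ.toF ((u * u) ^ 2 ^ (k - 1))
  have hk2 : 2 ∣ 2 ^ (k - 1) := dvd_pow_self 2 (by omega)
  have hsmul : ∀ u ∈ U, ∀ v ∈ U, s (u * v) = s u + s v := by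
    intro u hu v hv
    obtain ⟨hc, hc2⟩ := hz v hv u hu
    have e : u * v * (u * v) = u * cm v u * u⁻¹ * (u * u) * (v * v) := by simp [cm, mul_assoc]
    have e' : cm v u ^ 2 ^ (k - 1) = 1 := by
      obtain ⟨m, hm⟩ := hk2
      rw [hm, pow_mul, sq, hc2, one_pow]
    simp only [s]
    rw [e, conj_inv Δ u hc2, M.mul_pow (mul_mem hc hu.2.1) hv.2.1, M.mul_pow hc hu.2.1, e', one_mul,
      Δ.toF_mul (M.two_pow_sq hu.2.1) (M.two_pow_sq hv.2.1)]
  have hsker : ∀ u ∈ U, s u = 0 → u ∈ B := by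
    intro u hu h
    obtain ⟨c, hc, hcc⟩ := M.two_root hu.2.1 ((Δ.toF_eq_zero (M.two_pow_sq hu.2.1)).1 h)
    have hcu : u * c = c * u := (hu.1 c hc).symm
    have hi : u * c⁻¹ * (u * c⁻¹) = 1 := by
      have hcm : u * c⁻¹ = c⁻¹ * u := (Commute.inv_right (show Commute u c from hcu)).eq
      calc u * c⁻¹ * (u * c⁻¹) = u * (c⁻¹ * u) * c⁻¹ := by simp [mul_assoc]
        _ = u * u * (c * c)⁻¹ := by rw [← hcm]; simp [mul_assoc]
        _ = 1 := by rw [hcc, mul_inv_cancel]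
    simpa using mul_mem (M.le _ hi) hc
  have hsα : ∀ u ∈ U, s (Δ.α u) = (Δ.Λ : F) * s u := by
    intro u hu
    simp only [s]
    rw [← map_mul, ← map_pow, Δ.toF_α (M.two_pow_sq hu.2.1)]
  have hsurj : ∀ c : F, ∃ u ∈ U, s u = c := by
    intro c
    refine Dat.eq_univ_of_stable (S := {c | ∃ u ∈ U, s u = c}) ⟨1, one_mem U, by simp [s, Δ.toF_one]⟩
      ?_ (fun a ha => by rwa [CharTwo.neg_eq]) Δ.gen ?_
      (show s u₀ ∈ {c | ∃ u ∈ U, s u = c} from ⟨u₀, ⟨hu₀C, hu₀U⟩, rfl⟩)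
      (fun h => hu₀B (hsker _ ⟨hu₀C, hu₀U⟩ h)) c
    · rintro _ ⟨u, hu, rfl⟩ _ ⟨v, hv, rfl⟩
      exact ⟨u * v, mul_mem hu hv, hsmul u hu v hv⟩
    · rintro _ ⟨u, hu, rfl⟩
      exact ⟨Δ.α u, hUi u hu, hsα u hu⟩
  choose t htU hts using hsurj
  have hdiv : ∀ u ∈ U, u⁻¹ * t (s u) ∈ B := by
    intro u hu
    refine hsker _ (mul_mem (inv_mem hu) (htU _)) ?_
    have := hsmul u hu _ (mul_mem (inv_mem hu) (htU (s u)))
    rw [mul_inv_cancel_left, hts] at this
    exact left_eq_add.1 this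
  have hl : ∀ g ∈ U, ∀ g' ∈ U, ∀ h ∈ U, cm (g * g') h = cm g' h * cm g h := fun g hg g' hg' h hh => by
    rw [cm_mul_left, conj_inv Δ g (hz g' hg' h hh).2]
  have hr : ∀ g ∈ U, ∀ h ∈ U, ∀ h' ∈ U, cm g (h * h') = cm g h * cm g h' := fun g hg h hh h' hh' => by
    rw [cm_mul_right, conj_inv Δ h (hz g hg h' hh').2]
  have hwd : ∀ g ∈ U, ∀ h ∈ U, Δ.toF (cm g h) = Δ.toF (cm (t (s g)) (t (s h))) := by
    intro g hg h hh
    have h0 : ∀ y ∈ U, ∀ b ∈ B, cm y b = 1 := fun y hy b hb => cm_eq_one.2 (hy.1 b hb).symm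
    have hgx := hdiv g hg
    have hhy := hdiv h hh
    conv_rhs => rw [← mul_inv_cancel_left g (t (s g)), ← mul_inv_cancel_left h (t (s h)),
      hl g hg _ (hBU hgx) _ (mul_mem hh (hBU hhy)), hr g hg h hh _ (hBU hhy), h0 g hg _ hhy, mul_one,
      ← cm_inv, h0 _ (mul_mem hh (hBU hhy)) _ hgx, inv_one, one_mul]
  let f : F → (F →+ F) := fun x => AddMonoidHom.mk' (fun y => Δ.toF (cm (t x) (t y))) fun y y' => by
    have := hwd (t x) (htU x) (t y * t y') (mul_mem (htU y) (htU y'))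
    rw [hr _ (htU x) _ (htU y) _ (htU y'), Δ.toF_mul (hz _ (htU x) _ (htU y)).2
      (hz _ (htU x) _ (htU y')).2, hsmul _ (htU y) _ (htU y'), hts, hts, hts] at this
    exact this.symm
  have hf := Δ.bil_eq_zero f
    (fun x x' => AddMonoidHom.ext fun y => by
      have := hwd (t x * t x') (mul_mem (htU x) (htU x')) (t y) (htU y)
      rw [hl _ (htU x) _ (htU x') _ (htU y), Δ.toF_mul (hz _ (htU x') _ (htU y)).2
        (hz _ (htU x) _ (htU y)).2, hsmul _ (htU x) _ (htU x'), hts, hts, hts, add_comm] at this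
      exact this.symm)
    (fun x y => by
      have := hwd _ (hUi _ (htU x)) _ (hUi _ (htU y))
      rw [← map_cm, Δ.toF_α (hz _ (htU x) _ (htU y)).2, hsα _ (htU x), hsα _ (htU y), hts, hts] at this
      exact this.symm)
    (fun x => by
      show Δ.toF (cm (t x) (t x)) = 0
      rw [cm_eq_one.2 rfl, Δ.toF_one])
  refine hu₀B ?_
  rw [← M.max U hUn hUi (fun g hg h hh => cm_eq_one.1 ((Δ.toF_eq_zero (hz g hg h hh).2).1
    ((hwd g hg h hh).trans (hf _ _)))) hBU]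
  exact ⟨hu₀C, hu₀U⟩

/-- If `B` consists of involutions, squares and commutators are involutions. -/
theorem conclusion_one (M : Max Δ B 1) :
    ∀ g, g * g ∈ B ∧ ∀ h, cm g h ∈ B := by
  have := M.normal
  have hV : ∀ b ∈ B, b * b = 1 := fun b hb => by
    have := M.exp b hb
    rwa [pow_one, sq] at this
  have hBcen : ∀ b ∈ B, ∀ g, g * b = b * g := fun b hb g => Δ.central (hV b hb) g
  set U := sqUpper B with hU
  have hBU : B ≤ U := fun b hb => ⟨mul_mem hb hb,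
    fun g => by rw [← cm_inv]; exact inv_mem (M.cm_mem g hb)⟩
  set C := Subgroup.centralizer (U : Set G) with hC
  have hCB : C ≤ B := by
    intro x hx
    by_contra hxB
    have : C.Normal := inferInstance
    obtain ⟨u, huC, huU, huB⟩ := Dat.exists_sqUpper Δ.pgroup (A := B) (D := C) hx hxB
    refine huB ?_
    rw [← M.max (C ⊓ U) inferInstance
      (fun y hy => ⟨Dat.inv_centralizer (Dat.inv_sqUpper M.inv) y hy.1, Dat.inv_sqUpper M.inv y hy.2⟩)
      (fun a ha b hb => (ha.1 b hb.2).symm)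
      (fun b hb => ⟨fun a _ => hBcen b hb a, hBU hb⟩)]
    exact ⟨huC, huU⟩
  have hcc : ∀ g, ∀ u ∈ U, cm g u * cm g u = 1 ∧ cm g u ∈ B := fun g u hu => by
    have : cm g u ∈ B := by rw [← cm_inv]; exact inv_mem (hu.2 g)
    exact ⟨hV _ this, this⟩
  intro g
  refine ⟨hCB fun u hu => ?_, fun h => hCB fun u hu => ?_⟩
  · refine (cm_eq_one.1 ?_).symm
    rw [cm_mul_left, conj_inv Δ g (hcc g u hu).1, (hcc g u hu).1]
  · refine (cm_eq_one.1 ?_).symm
    have hl : ∀ a b, cm (a * b) u = cm b u * cm a u := fun a b => by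
      rw [cm_mul_left, conj_inv Δ a (hcc b u hu).1]
    have e : cm g h = g * h * g⁻¹ * h⁻¹ := rfl
    have hinv : ∀ a, cm a⁻¹ u = cm a u := fun a => by
      have := hl a a⁻¹
      rw [mul_inv_cancel, show cm 1 u = 1 by simp [cm], eq_comm, mul_eq_one_iff_eq_inv,
        inv_eq_of_mul_eq_one_left (hcc a u hu).1] at this
      exact this
    rw [e, hl, hl, hl, hinv, hinv, M.comm _ (hcc g u hu).2 _ (mul_mem (hcc h u hu).2 (hcc g u hu).2),
      mul_assoc (cm h u) (cm g u), ← mul_assoc, ← mul_assoc, (hcc h u hu).1, one_mul, (hcc g u hu).1]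

end Max

end Cfsg.Agent.HigmanTransitive
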