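import Cfsg.Agent.Lib.HigmanTransitive.Layers
import Cfsg.Agent.Lib.HigmanTransitive.Exists

/-!
# 2-groups with transitive solvable automorphisms on involutions

`structure_thm`: in a non-abelian 2-group with at least two involutions permuted transitively by a
solvable group of automorphisms, the centre is `{x | x * x = 1}`, and squares and commutators lie
in it.
-/

set_option autoImplicit false
set_option linter.unusedSectionVars false

namespace Cfsg.Agent.HigmanTransitive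

open Cfsg.Agent.SuzukiTwo

variable {G : Type*} [Group G] [Finite G] {F : Type*} [Field F] [Fintype F] [CharP F 2]

namespace Max

variable {Δ : Dat G F} {B : Subgroup G} {k : ℕ}

theorem le_sqUpper (M : Max Δ B k) [B.Normal] : B ≤ sqUpper B := fun b hb =>
  ⟨mul_mem hb hb, fun g => by rw [← cm_inv]; exact inv_mem (M.cm_mem g hb)⟩

/-- The action of a section on the coordinates, with powers shifted by `2 ^ e`. -/
noncomputable def shiftForm (M : Max Δ B k) (e : ℕ) (g : G) (c : F) : F :=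
  Δ.toF (cm g (Classical.choose (M.exists_preimage c)) ^ 2 ^ e)

theorem shiftForm_eq (M : Max Δ B k) {e : ℕ} {g : G}
    (hsq : ∀ b ∈ B, cm g b ^ 2 ^ e * cm g b ^ 2 ^ e = 1)
    (hkill : ∀ z ∈ B, z ^ 2 ^ (k - 1) = 1 → cm g z ^ 2 ^ e = 1)
    {b : G} (hb : b ∈ B) :
    M.shiftForm e g (Δ.toF (b ^ 2 ^ (k - 1))) = Δ.toF (cm g b ^ 2 ^ e) := by
  set c := Δ.toF (b ^ 2 ^ (k - 1)) with hc
  obtain ⟨hb', hbc⟩ := Classical.choose_spec (M.exists_preimage c)
  set b' := Classical.choose (M.exists_preimage c)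
  show Δ.toF (cm g b' ^ 2 ^ e) = _
  have h1 : b' ^ 2 ^ (k - 1) = b ^ 2 ^ (k - 1) :=
    Δ.toF_inj (M.two_pow_sq hb') (M.two_pow_sq hb) hbc
  have hz : b⁻¹ * b' ∈ B := mul_mem (inv_mem hb) hb'
  have h2 : (b⁻¹ * b') ^ 2 ^ (k - 1) = 1 := by
    rw [M.mul_pow (inv_mem hb) hb', h1, inv_pow, inv_mul_cancel]
  have h3 : cm g b' = cm g b * cm g (b⁻¹ * b') := by
    rw [← M.cm_right g hb hz, mul_inv_cancel_left]
  rw [h3, M.mul_pow (M.cm_mem g hb) (M.cm_mem g hz), hkill _ hz h2, mul_one]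

theorem shiftForm_add (M : Max Δ B k) {e : ℕ} {g : G}
    (hsq : ∀ b ∈ B, cm g b ^ 2 ^ e * cm g b ^ 2 ^ e = 1)
    (hkill : ∀ z ∈ B, z ^ 2 ^ (k - 1) = 1 → cm g z ^ 2 ^ e = 1) (c c' : F) :
    M.shiftForm e g (c + c') = M.shiftForm e g c + M.shiftForm e g c' := by
  obtain ⟨b, hb, rfl⟩ := M.exists_preimage c
  obtain ⟨b', hb', rfl⟩ := M.exists_preimage c'
  rw [← Δ.toF_mul (M.two_pow_sq hb) (M.two_pow_sq hb'), ← M.mul_pow hb hb',
    M.shiftForm_eq hsq hkill (mul_mem hb hb'), M.shiftForm_eq hsq hkill hb,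
    M.shiftForm_eq hsq hkill hb', M.cm_right g hb hb', M.mul_pow (M.cm_mem g hb) (M.cm_mem g hb'),
    Δ.toF_mul (hsq b hb) (hsq b' hb')]

open scoped Classical in
/-- The action as an additive map; zero outside the section. -/
noncomputable def actHom (M : Max Δ B k) (e : ℕ) (g : G) : F →+ F :=
  if h : (∀ b ∈ B, cm g b ^ 2 ^ e * cm g b ^ 2 ^ e = 1) ∧
      ∀ z ∈ B, z ^ 2 ^ (k - 1) = 1 → cm g z ^ 2 ^ e = 1
  then AddMonoidHom.mk' (M.shiftForm e g) (M.shiftForm_add h.1 h.2) else 0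

theorem actHom_eq (M : Max Δ B k) {e : ℕ} {g : G}
    (hsq : ∀ b ∈ B, cm g b ^ 2 ^ e * cm g b ^ 2 ^ e = 1)
    (hkill : ∀ z ∈ B, z ^ 2 ^ (k - 1) = 1 → cm g z ^ 2 ^ e = 1) {b : G} (hb : b ∈ B) :
    M.actHom e g (Δ.toF (b ^ 2 ^ (k - 1))) = Δ.toF (cm g b ^ 2 ^ e) := by
  rw [actHom, dif_pos ⟨hsq, hkill⟩]
  exact M.shiftForm_eq hsq hkill hb

/-- The family of additive maps given by a section. -/
theorem fam (M : Max Δ B k) {U N : Subgroup G} (hU : Δ.Inv U) (hN : Δ.Inv N) {e : ℕ}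
    (hsq : ∀ g ∈ U, ∀ b ∈ B, cm g b ^ 2 ^ e * cm g b ^ 2 ^ e = 1)
    (hkill : ∀ g ∈ U, ∀ z ∈ B, z ^ 2 ^ (k - 1) = 1 → cm g z ^ 2 ^ e = 1)
    (hadd : ∀ g ∈ U, ∀ h ∈ U, ∀ b ∈ B, cm g (cm h b) ^ 2 ^ e = 1)
    (hker : ∀ g ∈ U, (∀ b ∈ B, cm g b ^ 2 ^ e = 1) ↔ g ∈ N) :
    Dat.Fam Δ U N (M.actHom e) := by
  refine ⟨hU, hN, fun g hg h hh => AddMonoidHom.ext fun c => ?_, fun g hg => ?_, fun g hg c => ?_⟩
  · obtain ⟨b, hb, rfl⟩ := M.exists_preimage c
    have hd := M.cm_mem h hb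
    have hdd := M.cm_mem g hd
    have e1 : cm (g * h) b = cm g (cm h b) * cm h b * cm g b := by
      rw [cm_mul_left]; simp [cm, mul_assoc]
    rw [AddMonoidHom.add_apply, M.actHom_eq (hsq _ (mul_mem hg hh)) (hkill _ (mul_mem hg hh)) hb,
      M.actHom_eq (hsq g hg) (hkill g hg) hb, M.actHom_eq (hsq h hh) (hkill h hh) hb, e1,
      M.mul_pow (mul_mem hdd hd) (M.cm_mem g hb), M.mul_pow hdd hd, hadd g hg h hh b hb, one_mul,
      Δ.toF_mul (hsq h hh b hb) (hsq g hg b hb), add_comm]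
  · rw [← hker g hg]
    constructor
    · intro h b hb
      refine (Δ.toF_eq_zero (hsq g hg b hb)).1 ?_
      rw [← M.actHom_eq (hsq g hg) (hkill g hg) hb, h]
      rfl
    · intro h
      refine AddMonoidHom.ext fun c => ?_
      obtain ⟨b, hb, rfl⟩ := M.exists_preimage c
      rw [M.actHom_eq (hsq g hg) (hkill g hg) hb, h b hb, Δ.toF_one]
      rfl
  · obtain ⟨b, hb, rfl⟩ := M.exists_preimage c
    have hgU := hU g hg
    rw [M.actHom_eq (hsq g hg) (hkill g hg) hb, ← Δ.toF_α (M.two_pow_sq hb), map_pow,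
      M.actHom_eq (hsq _ hgU) (hkill _ hgU) (M.inv b hb), ← map_cm, ← map_pow, Δ.toF_α (hsq g hg b hb)]

/-- A pure element squares into the kernel of the top power. -/
theorem sq_pow_eq_one (M : Max Δ B k) {g : G} (hgg : g * g ∈ B)
    (hsq : ∀ b ∈ B, cm g b ^ 2 ^ 0 * cm g b ^ 2 ^ 0 = 1)
    (hkill : ∀ z ∈ B, z ^ 2 ^ (k - 1) = 1 → cm g z ^ 2 ^ 0 = 1) {σ : F ≃+* F} {c : F} (hc : c ≠ 0)
    (hp : Dat.IsPure (M.actHom 0) σ g c) : (g * g) ^ 2 ^ (k - 1) = 1 := by
  have h := hp (Δ.toF ((g * g) ^ 2 ^ (k - 1)))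
  rw [M.actHom_eq hsq hkill hgg, show cm g (g * g) = 1 from cm_eq_one.2 (by simp [mul_assoc]),
    one_pow, Δ.toF_one, eq_comm, mul_eq_zero] at h
  exact (Δ.toF_eq_zero (M.two_pow_sq hgg)).1 ((map_eq_zero σ).1 (h.resolve_left hc))

theorem kill_of_sq (M : Max Δ B k) {g : G} (hsq : ∀ b ∈ B, cm g b * cm g b = 1) :
    ∀ z ∈ B, z ^ 2 ^ (k - 1) = 1 → cm g z = 1 := by
  intro z hz hz1
  obtain ⟨e, he, rfl⟩ := M.two_root hz hz1
  rw [M.cm_right g he he, hsq e he]

/-- Exponent at least eight is impossible. -/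
theorem le_two (M : Max Δ B k) (hna : ∃ x y : G, x * y ≠ y * x) : k ≤ 2 := by
  by_contra hk3
  have := M.normal
  set U := sqUpper B with hU
  have hUi : Δ.Inv U := Dat.inv_sqUpper M.inv
  obtain ⟨x, hxB⟩ : ∃ x, x ∉ B := by
    by_contra! hall
    obtain ⟨x, y, hxy⟩ := hna
    exact hxy (M.comm x (hall x) y (hall y))
  obtain ⟨u₀, -, hu₀U, hu₀B⟩ :=
    Dat.exists_sqUpper Δ.pgroup (A := B) (D := (⊤ : Subgroup G)) (x := x) trivial hxB
  have hk2 : 2 ≤ k := by omega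
  have e1 : 2 ^ (k - 1) = 2 * 2 ^ (k - 2) := by rw [← pow_succ']; congr 1; omega
  have e2 : 2 ^ (k - 1) = 2 ^ (k - 2) * 2 := by rw [e1, mul_comm]
  -- the first action
  have hroot : ∀ g, ∀ b ∈ B, ∃ e ∈ B, e * e = cm g b := by
    intro g b hb
    refine M.two_root (M.cm_mem g hb) ?_
    rw [← M.cm_pow g hb]
    exact cm_inv_one Δ g (M.two_pow_sq hb)
  have hsq1 : ∀ g ∈ U, ∀ b ∈ B, cm g b ^ 2 ^ (k - 2) * cm g b ^ 2 ^ (k - 2) = 1 := by
    intro g _ b hb
    rw [← pow_add, ← two_mul, ← e1, ← M.cm_pow g hb]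
    exact cm_inv_one Δ g (M.two_pow_sq hb)
  have hkill1 : ∀ g ∈ U, ∀ z ∈ B, z ^ 2 ^ (k - 1) = 1 → cm g z ^ 2 ^ (k - 2) = 1 := by
    intro g hg z hz hz1
    obtain ⟨e, he, rfl⟩ := M.two_root hz hz1
    rw [M.cm_right g he he, M.mul_pow (M.cm_mem g he) (M.cm_mem g he), hsq1 g hg e he]
  have hadd1 : ∀ g ∈ U, ∀ h ∈ U, ∀ b ∈ B, cm g (cm h b) ^ 2 ^ (k - 2) = 1 := by
    intro g hg h _ b hb
    obtain ⟨e, he, hee⟩ := hroot h b hb
    rw [← hee, M.cm_right g he he, M.mul_pow (M.cm_mem g he) (M.cm_mem g he), hsq1 g hg e he]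
  let N₁ : Subgroup G :=
    { carrier := {g | g ∈ U ∧ ∀ b ∈ B, cm g b ^ 2 ^ (k - 2) = 1}
      one_mem' := ⟨one_mem U, fun b _ => by simp [cm]⟩
      mul_mem' := by
        rintro g h ⟨hg, hg'⟩ ⟨hh, hh'⟩
        refine ⟨mul_mem hg hh, fun b hb => ?_⟩
        have hd := M.cm_mem h hb
        rw [show cm (g * h) b = cm g (cm h b) * cm h b * cm g b by
          rw [cm_mul_left]; simp [cm, mul_assoc],
          M.mul_pow (mul_mem (M.cm_mem g hd) hd) (M.cm_mem g hb), M.mul_pow (M.cm_mem g hd) hd,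
          hg' _ hd, hh' b hb, hg' b hb, one_mul, one_mul]
      inv_mem' := by
        rintro g ⟨hg, hg'⟩
        refine ⟨inv_mem hg, fun b hb => ?_⟩
        have hd := M.cm_mem g⁻¹ hb
        have h0 : cm (g * g⁻¹) b = cm g (cm g⁻¹ b) * cm g⁻¹ b * cm g b := by
          rw [cm_mul_left]; simp [cm, mul_assoc]
        rw [mul_inv_cancel, show cm 1 b = 1 by simp [cm]] at h0
        have h1 := congrArg (· ^ 2 ^ (k - 2)) h0
        simp only [one_pow] at h1
        rw [M.mul_pow (mul_mem (M.cm_mem g hd) hd) (M.cm_mem g hb), M.mul_pow (M.cm_mem g hd) hd,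
          hg' _ hd, hg' b hb, one_mul, mul_one] at h1
        exact h1.symm }
  have hN₁i : Δ.Inv N₁ := by
    rintro g ⟨hg, hg'⟩
    refine ⟨hUi g hg, fun b hb => ?_⟩
    rw [← Δ.α.apply_symm_apply b, ← map_cm, ← map_pow, hg' _ (M.inv.symm hb), map_one]
  have hΦ1 := M.fam hUi hN₁i hsq1 hkill1 hadd1
    (fun g hg => ⟨fun h => ⟨hg, h⟩, fun h => h.2⟩)
  -- every coordinate map is idempotent
  have hidem : ∀ g ∈ U, ∀ c, M.actHom (k - 2) g (M.actHom (k - 2) g c) = M.actHom (k - 2) g c := by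
    intro g hg c
    obtain ⟨b, hb, rfl⟩ := M.exists_preimage c
    obtain ⟨e, he, hee⟩ := hroot g b hb
    have hδ : cm g b * (cm g (cm g b) * cm g b) = 1 := by
      have h1 : cm (g * g) b = 1 := cm_eq_one.2 (M.comm _ hg.1 b hb)
      have h2 : cm (g * g) b = cm g (cm g b) * cm g b * cm g b := by
        rw [cm_mul_left]; simp [cm, mul_assoc]
      rw [h1] at h2
      rw [M.comm _ (M.cm_mem g hb) _ (mul_mem (M.cm_mem g (M.cm_mem g hb)) (M.cm_mem g hb))]
      exact h2.symm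
    have hce := M.cm_mem g he
    set z := cm g e * (e * e) with hzdef
    have hz : z * z = 1 := by
      rw [hzdef, sq_mul M.comm hce (mul_mem he he), ← M.cm_right g he he, hee]
      rw [show cm g (cm g b) * (cm g b * cm g b) = cm g b * (cm g (cm g b) * cm g b) by
        rw [M.comm (cm g b) (M.cm_mem g hb) _ (mul_mem (M.cm_mem g (M.cm_mem g hb)) (M.cm_mem g hb)),
          mul_assoc]]
      exact hδ
    have hev : M.actHom (k - 2) g (Δ.toF (b ^ 2 ^ (k - 1))) = Δ.toF (e ^ 2 ^ (k - 1)) := by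
      rw [M.actHom_eq (hsq1 g hg) (hkill1 g hg) hb, ← hee, ← sq, ← pow_mul, ← e1]
    have hzB : z ∈ B := mul_mem hce (mul_mem he he)
    have hzpow : z ^ 2 ^ (k - 2) = 1 := by
      obtain ⟨m, hm⟩ : 2 ∣ 2 ^ (k - 2) := dvd_pow_self 2 (by omega)
      rw [hm, pow_mul, sq, hz, one_pow]
    have hcme : cm g e ^ 2 ^ (k - 2) = e ^ 2 ^ (k - 1) := by
      rw [hzdef, M.mul_pow hce (mul_mem he he), ← sq, ← pow_mul, ← e1] at hzpow
      rw [eq_inv_of_mul_eq_one_left hzpow, inv_eq_of_mul_eq_one_left (M.two_pow_sq he)]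
    rw [hev, M.actHom_eq (hsq1 g hg) (hkill1 g hg) he, hcme]
  have hall1 : ∀ g ∈ U, g ∈ N₁ := by
    refine Dat.decompose hΦ1 (fun g hg => hg.1) (fun g => g ∈ N₁) (fun a ha => ha)
      (fun x _ y _ hx hy => mul_mem hx hy) ?_
    intro σ u c hu hc hp
    exfalso
    obtain ⟨hσ, -⟩ := Dat.pure_facts hΦ1 hu hc hp
    refine hσ (RingEquiv.ext fun y => ?_)
    have key : ∀ y, c * σ y = y := fun y => by
      obtain ⟨w, hw⟩ := σ.surjective (y / c)
      have h := hidem u hu w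
      rwa [hp w, hp, hw, mul_div_cancel₀ _ hc] at h
    have hc1 : c = 1 := by simpa using key 1
    simpa [hc1] using key y
  -- the commutators with `B` are involutions
  have hstep : ∀ j, 2 ≤ j → j ≤ k - 1 → ∀ g ∈ U, ∀ b ∈ B, ∃ e ∈ B, e ^ 2 ^ j = cm g b := by
    intro j hj
    induction j, hj using Nat.le_induction with
    | base =>
      intro _ g hg b hb
      obtain ⟨e, he, hee⟩ := M.root (k - 2) (by omega) _ (M.cm_mem g hb) ((hall1 g hg).2 b hb)
      exact ⟨e, he, by rwa [show k - (k - 2) = 2 by omega] at hee⟩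
    | succ j hj ih =>
      intro hjk g hg b hb
      obtain ⟨e, he, hee⟩ := ih (by omega) g hg b hb
      obtain ⟨f, hf, hff⟩ := ih (by omega) g hg e he
      set w := f ^ (2 ^ j * 2 ^ (j - 1)) with hw
      have hwB : w ∈ B := pow_mem hf _
      have h1 : cm g (cm g b) = w * w := by
        rw [← hee, M.cm_pow g he, ← hff, hw, ← pow_add f, ← pow_mul]
        congr 1
        have : 2 ^ j = 2 ^ (j - 1) + 2 ^ (j - 1) := by
          conv_lhs => rw [show j = j - 1 + 1 by omega, pow_succ]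
          ring
        rw [← mul_add, ← this]
      have h3 : cm g (cm g b) * (cm g b * cm g b) = 1 := by
        have h2 : cm (g * g) b = cm g (cm g b) * cm g b * cm g b := by
          rw [cm_mul_left]; simp [cm, mul_assoc]
        rw [cm_eq_one.2 (M.comm _ hg.1 b hb), mul_assoc] at h2
        exact h2.symm
      rw [h1, ← sq_mul M.comm hwB (M.cm_mem g hb)] at h3
      obtain ⟨v, hv, hvz⟩ := M.top h3
      have hp1 : 2 ^ (k - 1) = 2 ^ (k - 1 - (j + 1)) * 2 ^ (j + 1) := by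
        rw [← pow_add]; congr 1; omega
      have hp2 : 2 ^ j * 2 ^ (j - 1) = 2 ^ (j - 1 - 1) * 2 ^ (j + 1) := by
        rw [← pow_add, ← pow_add]; congr 1; omega
      refine ⟨v ^ 2 ^ (k - 1 - (j + 1)) * (f ^ 2 ^ (j - 1 - 1))⁻¹,
        mul_mem (pow_mem hv _) (inv_mem (pow_mem hf _)), ?_⟩
      rw [M.mul_pow (pow_mem hv _) (inv_mem (pow_mem hf _)), ← pow_mul, ← hp1, hvz, inv_pow,
        ← pow_mul, ← hp2, ← hw, M.comm w hwB _ (M.cm_mem g hb), mul_inv_cancel_right]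
  have hsq2 : ∀ g ∈ U, ∀ b ∈ B, cm g b * cm g b = 1 := by
    intro g hg b hb
    obtain ⟨e, he, hee⟩ := hstep (k - 1) (by omega) le_rfl g hg b hb
    rw [← hee]
    exact M.two_pow_sq he
  -- the second action
  have hsq2' : ∀ g ∈ U, ∀ b ∈ B, cm g b ^ 2 ^ 0 * cm g b ^ 2 ^ 0 = 1 :=
    fun g hg b hb => by simpa using hsq2 g hg b hb
  have hkill2 : ∀ g ∈ U, ∀ z ∈ B, z ^ 2 ^ (k - 1) = 1 → cm g z ^ 2 ^ 0 = 1 :=
    fun g hg z hz hz1 => by simpa using M.kill_of_sq (hsq2 g hg) z hz hz1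
  have hΦ2 := M.fam hUi M.inv hsq2' hkill2
    (fun g hg h hh b hb => by simp [cm_inv_one Δ g (hsq2 h hh b hb)])
    (fun g _ => ⟨fun h => M.centralizer_le hk2
      (fun b hb => (cm_eq_one.1 (by simpa using h b hb)).symm),
      fun h b hb => by simp [cm_eq_one.2 (M.comm g h b hb)]⟩)
  refine hu₀B (Dat.decompose hΦ2 M.le_sqUpper (fun g => g ∈ B) (fun a ha => ha)
    (fun x _ y _ hx hy => mul_mem hx hy) ?_ u₀ hu₀U)
  intro σ u c hu hc hp
  obtain ⟨b₀, hb₀, hbb⟩ :=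
    M.two_root hu.1 (M.sq_pow_eq_one hu.1 (hsq2' u hu) (hkill2 u hu) hc hp)
  set v := cm u b₀⁻¹ with hv
  have hvB : v ∈ B := M.cm_mem u (inv_mem hb₀)
  have hv2 : v * v = 1 := hsq2 u hu _ (inv_mem hb₀)
  obtain ⟨z, hz, hzv⟩ := M.top hv2
  set y := z ^ 2 ^ (k - 2) with hy
  have hyB : y ∈ B := pow_mem hz _
  have hyy : y * y = v := by rw [hy, ← pow_add, ← two_mul, ← e1, hzv]
  have hcy : cm u y = 1 := by
    obtain ⟨m, hm⟩ : 2 ∣ 2 ^ (k - 2) := dvd_pow_self 2 (by omega)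
    rw [hy, M.cm_pow u hz, hm, pow_mul, sq, hsq2 u hu z hz, one_pow]
  have hcb : cm u (b₀⁻¹ * y) = v := by rw [M.cm_right u (inv_mem hb₀) hyB, hcy, mul_one]
  have hi : u * (b₀⁻¹ * y) * (u * (b₀⁻¹ * y)) = 1 := by
    rw [show u * (b₀⁻¹ * y) * (u * (b₀⁻¹ * y)) =
      cm u (b₀⁻¹ * y) * (b₀⁻¹ * y) * (u * u) * (b₀⁻¹ * y) by simp [cm, mul_assoc], hcb, ← hbb]
    have hb : b₀⁻¹ * y ∈ B := mul_mem (inv_mem hb₀) hyB
    rw [mul_assoc (v * _), M.comm _ (mul_mem hb₀ hb₀) _ hb, ← mul_assoc, mul_assoc v,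
      sq_mul M.comm (inv_mem hb₀) hyB, hyy, M.comm _ (mul_mem (inv_mem hb₀) (inv_mem hb₀)) v hvB,
      ← mul_assoc v, hv2, one_mul]
    simp [mul_assoc]
  have h := mul_mem (M.le _ hi) (inv_mem (mul_mem (inv_mem hb₀) hyB))
  rwa [mul_inv_cancel_right] at h

/-- Exponent four. -/
theorem conclusion_two (M : Max Δ B 2) : ∀ g : G, g * g * (g * g) = 1 ∧ ∀ h : G, cm g h * cm g h = 1 := by
  have := M.normal
  have hb2 : ∀ b ∈ B, b * b * (b * b) = 1 := fun b hb => by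
    have := M.exp b hb
    rwa [show (2 : ℕ) ^ 2 = 2 + 2 by norm_num, pow_add, sq] at this
  have hsq : ∀ g, ∀ b ∈ B, cm g b * cm g b = 1 := fun g b hb => by
    rw [← M.cm_right g hb hb]
    exact cm_inv_one Δ g (hb2 b hb)
  have hggB : ∀ g, g * g ∈ B := fun g => M.centralizer_le le_rfl fun b hb =>
    (cm_eq_one.1 (by rw [cm_mul_left, conj_inv Δ g (hsq g b hb), hsq g b hb])).symm
  have hcB : ∀ g h, cm g h ∈ B := by
    intro g h
    refine M.centralizer_le le_rfl fun b hb => (cm_eq_one.1 ?_).symm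
    have hl : ∀ x y, cm (x * y) b = cm y b * cm x b := fun x y => by
      rw [cm_mul_left, conj_inv Δ x (hsq y b hb)]
    have hinv : ∀ x, cm x⁻¹ b = cm x b := fun x => by
      have := hl x x⁻¹
      rw [mul_inv_cancel, show cm 1 b = 1 by simp [cm], eq_comm, mul_eq_one_iff_eq_inv,
        inv_eq_of_mul_eq_one_left (hsq x b hb)] at this
      exact this
    rw [show cm g h = g * h * g⁻¹ * h⁻¹ from rfl, hl, hl, hl, hinv, hinv,
      M.comm _ (M.cm_mem g hb) _ (mul_mem (M.cm_mem h hb) (M.cm_mem g hb)),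
      mul_assoc (cm h b) (cm g b), ← mul_assoc, ← mul_assoc, hsq h b hb, one_mul, hsq g b hb]
  have hsq' : ∀ g ∈ (⊤ : Subgroup G), ∀ b ∈ B, cm g b ^ 2 ^ 0 * cm g b ^ 2 ^ 0 = 1 :=
    fun g _ b hb => by simpa using hsq g b hb
  have hkill : ∀ g ∈ (⊤ : Subgroup G), ∀ z ∈ B, z ^ 2 ^ (2 - 1) = 1 → cm g z ^ 2 ^ 0 = 1 :=
    fun g _ z hz hz1 => by simpa using M.kill_of_sq (hsq g) z hz hz1
  have hΦ := M.fam (U := ⊤) (fun _ _ => trivial) M.inv hsq' hkill
    (fun g _ h _ b hb => by simp [cm_inv_one Δ g (hsq h b hb)])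
    (fun g _ => ⟨fun h => M.centralizer_le le_rfl
      (fun b hb => (cm_eq_one.1 (by simpa using h b hb)).symm),
      fun h b hb => by simp [cm_eq_one.2 (M.comm g h b hb)]⟩)
  have hval : ∀ g, ∀ b ∈ B, M.actHom 0 g (Δ.toF (b * b)) = Δ.toF (cm g b) := by
    intro g b hb
    have := M.actHom_eq (hsq' g trivial) (hkill g trivial) hb
    simpa [sq] using this
  have hpsq : ∀ {σ : F ≃+* F} {g : G} {c : F}, c ≠ 0 → Dat.IsPure (M.actHom 0) σ g c →
      g * g * (g * g) = 1 := by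
    intro σ g c hc hp
    have := M.sq_pow_eq_one (hggB g) (hsq' g trivial) (hkill g trivial) hc hp
    simpa [sq] using this
  have hconjsq : ∀ h, ∀ b ∈ B, h * b * h⁻¹ * (h * b * h⁻¹) = b * b := fun h b hb => by
    rw [show h * b * h⁻¹ * (h * b * h⁻¹) = h * (b * b) * h⁻¹ by simp [mul_assoc],
      conj_inv Δ h (hb2 b hb)]
  have hW : ∀ g h, Δ.toF (cm g h * cm g h) =
      Δ.toF (cm g h * cm g h) ∧ cm g h * cm g h * (cm g h * cm g h) = 1 :=
    fun g h => ⟨rfl, hb2 _ (hcB g h)⟩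
  -- pairs of pure elements
  have hpair : ∀ {σ : F ≃+* F} {g : G} {a : F}, a ≠ 0 → Dat.IsPure (M.actHom 0) σ g a →
      ∀ {τ : F ≃+* F} {h : G} {c : F}, c ≠ 0 → Dat.IsPure (M.actHom 0) τ h c →
        cm g h * cm g h = 1 := by
    intro σ g a ha hg τ h₀ c₀ hc₀ hh₀
    obtain ⟨-, hfull⟩ := Dat.pure_facts hΦ (Subgroup.mem_top h₀) hc₀ hh₀
    choose w _ hw using hfull
    have hrr : ∀ h, ∀ b ∈ B, cm g (h * b) * cm g (h * b) = cm g h * cm g h := by
      intro h b hb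
      have h1 : cm g b * cm g b = 1 := hsq g b hb
      rw [cm_mul_right, conj_inv Δ h h1, sq_mul M.comm (hcB g h) (M.cm_mem g hb), h1, mul_one]
    have hcongr : ∀ h h', M.actHom 0 h = M.actHom 0 h' →
        cm g h * cm g h = cm g h' * cm g h' := by
      intro h h' e
      have hb : h⁻¹ * h' ∈ B := (hΦ.ker _ trivial).1 (by
        have := hΦ.map_mul h trivial (h⁻¹ * h') trivial
        rw [mul_inv_cancel_left, e] at this
        exact left_eq_add.1 this)
      conv_rhs => rw [← mul_inv_cancel_left h h']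
      rw [hrr h _ hb]
    let ψ : F →+ F := AddMonoidHom.mk' (fun x => Δ.toF (cm g (w x) * cm g (w x))) fun x x' => by
      show Δ.toF _ = Δ.toF _ + Δ.toF _
      rw [← Δ.toF_mul (hW g (w x)).2 (hW g (w x')).2]
      congr 1
      rw [hcongr (w (x + x')) (w x * w x') (AddMonoidHom.ext fun y => by
        rw [hw, hΦ.map_mul _ trivial _ trivial, AddMonoidHom.add_apply, hw, hw, add_mul]),
        cm_mul_right, sq_mul M.comm (hcB g (w x)) (M.normal.conj_mem _ (hcB g (w x')) _),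
        hconjsq (w x) _ (hcB g (w x'))]
    have hfix : ∀ x, x ≠ 0 → a * σ (ψ x) = ψ x ∧ x * τ (ψ x) = ψ x := by
      intro x hx
      have hgc : cm g h₀ ∈ B := hcB g h₀
      have hcg : ∀ h, g * g * (g * g) = 1 → cm g (cm g h) = cm g h * cm g h := by
        intro h hgg
        have h1 : cm (g * g) h = 1 := cm_eq_one.2 (Δ.central hgg h).symm
        have h2 : cm (g * g) h = cm g (cm g h) * cm g h * cm g h := by
          rw [cm_mul_left]; simp [cm, mul_assoc]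
        rw [h1, mul_assoc, eq_comm, mul_eq_one_iff_eq_inv,
          inv_eq_of_mul_eq_one_left (hW g h).2] at h2
        exact h2
      have hch : cm (w x) (cm g (w x)) = cm g (w x) * cm g (w x) := by
        set h := w x
        have h1 : cm g (h * h) = 1 := cm_eq_one.2 (Δ.central (hpsq hx (hw x)) g)
        have h2 : cm g (h * h) = cm g h * (cm h (cm g h) * cm g h) := by
          rw [cm_mul_right]; simp [cm, mul_assoc]
        rw [h1, M.comm (cm h (cm g h)) (M.cm_mem h (hcB g h)) (cm g h) (hcB g h), ← mul_assoc,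
          eq_comm, mul_eq_one_iff_inv_eq, inv_eq_of_mul_eq_one_left (hW g h).2] at h2
        exact h2.symm
      have e1 := hval g _ (hcB g (w x))
      have e2 := hval (w x) _ (hcB g (w x))
      rw [hg, hcg _ (hpsq ha hg)] at e1
      rw [hw, hch] at e2
      exact ⟨e1, e2⟩
    have hψ0 : ψ = 0 := by
      by_contra hne
      obtain ⟨x₁, hx₁⟩ : ∃ x, ψ x ≠ 0 := by
        by_contra! hall
        exact hne (AddMonoidHom.ext hall)
      have hx₁0 : x₁ ≠ 0 := fun e => hx₁ (by rw [e, map_zero])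
      have hinj : Function.Injective ψ := by
        refine (injective_iff_map_eq_zero ψ).2 fun x₀ h0 => ?_
        have e1 : ψ (x₁ + x₀) = ψ x₁ := by rw [map_add, h0, add_zero]
        have e2 := (hfix (x₁ + x₀) (fun e => hx₁ (by rw [← e1, e, map_zero]))).2
        rw [e1, add_mul, (hfix x₁ hx₁0).2, add_eq_left, mul_eq_zero] at e2
        exact e2.resolve_right ((map_ne_zero τ).2 hx₁)
      have hall : ∀ y, a * σ y = y := by
        intro y
        obtain ⟨x, rfl⟩ := Finite.surjective_of_injective hinj y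
        by_cases hx : x = 0
        · simp [hx]
        · exact (hfix x hx).1
      have ha1 : a = 1 := by simpa using hall 1
      exact (Dat.pure_facts hΦ (Subgroup.mem_top g) ha hg).1
        (RingEquiv.ext fun y => by simpa [ha1] using hall y)
    have h1 : ψ c₀ = 0 := by rw [hψ0]; rfl
    rw [hcongr h₀ (w c₀) (AddMonoidHom.ext fun y => by rw [hh₀, hw])]
    exact (Δ.toF_eq_zero (hW g (w c₀)).2).1 h1
  have hmr : ∀ g h h' : G, cm g h * cm g h = 1 → cm g h' * cm g h' = 1 →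
      cm g (h * h') * cm g (h * h') = 1 := by
    intro g h h' h1 h2
    rw [cm_mul_right, conj_inv Δ h h2, sq_mul M.comm (hcB g h) (hcB g h'), h1, h2, one_mul]
  have hsymm : ∀ g h : G, cm g h * cm g h = 1 → cm h g * cm h g = 1 := fun g h h1 => by
    rw [← cm_inv, ← mul_inv_rev, h1, inv_one]
  have hBg : ∀ g, ∀ b ∈ B, cm b g * cm b g = 1 := fun g b hb => hsymm _ _ (hsq g b hb)
  -- pure elements commute with everything modulo the involutions
  have hpall : ∀ {σ : F ≃+* F} {g : G} {a : F}, a ≠ 0 → Dat.IsPure (M.actHom 0) σ g a →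
      ∀ h, cm g h * cm g h = 1 := by
    intro σ g a ha hg h
    exact Dat.decompose hΦ le_top (fun h => cm g h * cm g h = 1) (fun b hb => hsq g b hb)
      (fun x _ y _ hx hy => hmr g x y hx hy) (fun τ u c _ hc hp => hpair ha hg hc hp) h trivial
  have hcom : ∀ g h : G, cm g h * cm g h = 1 := by
    intro g h
    refine Dat.decompose hΦ le_top (fun g => cm g h * cm g h = 1) (fun b hb => hBg h b hb)
      (fun x _ y _ hx hy => hsymm _ _ (hmr h x y (hsymm _ _ hx) (hsymm _ _ hy)))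
      (fun τ u c _ hc hp => hpall hc hp h) g trivial
  intro g
  refine ⟨?_, hcom g⟩
  refine Dat.decompose hΦ le_top (fun g => g * g * (g * g) = 1) (fun b hb => hb2 b hb)
    ?_ (fun τ u c _ hc hp => hpsq hc hp) g trivial
  intro x _ y _ hx hy
  rw [show x * y * (x * y) = x * cm y x * x⁻¹ * (x * x) * (y * y) by simp [cm, mul_assoc],
    conj_inv Δ x (hcom y x), sq_mul M.comm (mul_mem (hcB y x) (hggB x)) (hggB y),
    sq_mul M.comm (hcB y x) (hggB x), hcom y x, hx, hy, one_mul, one_mul]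

end Max

/-- The structure, given the data. -/
theorem Dat.conclusion (Δ : Dat G F) (hna : ∃ x y : G, x * y ≠ y * x) :
    (∀ g : G, g * g * (g * g) = 1 ∧ ∀ h, cm g h * cm g h = 1) ∧
      ∀ x ∈ Subgroup.center G, x * x = 1 := by
  obtain ⟨B, k, M⟩ := Δ.exists_max
  have hk := M.le_two hna
  have hk1 := M.one_le
  obtain rfl | rfl : k = 1 ∨ k = 2 := by omega
  · have hV : ∀ b ∈ B, b * b = 1 := fun b hb => by
      have := M.exp b hb
      rwa [pow_one, sq] at this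
    exact ⟨fun g => ⟨hV _ (M.conclusion_one g).1, fun h => hV _ ((M.conclusion_one g).2 h)⟩,
      fun x hx => hV _ (M.center_le hx)⟩
  · refine ⟨M.conclusion_two, fun z hz => ?_⟩
    by_contra hzz
    have hzB := M.center_le hz
    -- all squares of `B` are squares of central elements, so `B` is central
    let H : Subgroup G :=
      { carrier := {y | ∃ c ∈ Subgroup.center G, c * c = y}
        one_mem' := ⟨1, one_mem _, one_mul 1⟩
        mul_mem' := by
          rintro _ _ ⟨a, ha, rfl⟩ ⟨b, hb, rfl⟩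
          exact ⟨a * b, mul_mem ha hb, Commute.mul_mul_mul_comm (Subgroup.mem_center_iff.1 ha b) a b⟩
        inv_mem' := by
          rintro _ ⟨a, ha, rfl⟩
          exact ⟨a⁻¹, inv_mem ha, (mul_inv_rev a a).symm⟩ }
    have hH : Δ.Inv H := by
      rintro _ ⟨a, ha, rfl⟩
      exact ⟨Δ.α a, Δ.center_inv a ha, (map_mul _ _ _).symm⟩
    have hb4 : ∀ b ∈ B, b * b * (b * b) = 1 := fun b hb => (M.conclusion_two b).1
    have hBc : ∀ b ∈ B, b ∈ Subgroup.center G := by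
      intro b hb
      obtain ⟨c, hc, hcb⟩ := Δ.sq_mem_of_inv hH ⟨z, hz, rfl⟩ hzz (hb4 z hzB) (hb4 b hb)
      have hbc : b * c⁻¹ * (b * c⁻¹) = 1 := by
        rw [Commute.mul_mul_mul_comm (Subgroup.mem_center_iff.1 (inv_mem hc) b).symm b c⁻¹,
          ← mul_inv_rev, hcb, mul_inv_cancel]
      have := mul_mem (Subgroup.mem_center_iff.2 fun g => Δ.central hbc g) hc
      rwa [inv_mul_cancel_right] at this
    obtain ⟨x, y, hxy⟩ := hna
    have hmem : ∀ g, g ∈ B := fun g =>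
      M.centralizer_le le_rfl fun b hb => (Subgroup.mem_center_iff.1 (hBc b hb) g).symm
    exact hxy (M.comm x (hmem x) y (hmem y))

universe u

/-- The structure theorem. -/
theorem structure_thm {G : Type u} [Group G] [Finite G] (hG : IsPGroup 2 G)
    (hna : ∃ x y : G, x * y ≠ y * x)
    (htwo : ∃ x y : G, x ≠ y ∧ x ≠ 1 ∧ x ^ 2 = 1 ∧ y ≠ 1 ∧ y ^ 2 = 1)
    (hY : ∃ Y : Subgroup (MulAut G), Group.IsSolvable Y ∧
      ∀ x y : G, x ≠ 1 → x ^ 2 = 1 → y ≠ 1 → y ^ 2 = 1 → ∃ a ∈ Y, a x = y) :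
    (∀ x : G, x ∈ Subgroup.center G ↔ x * x = 1) ∧
      (∀ g : G, g * g ∈ Subgroup.center G) ∧ (∀ g h : G, cm g h ∈ Subgroup.center G) ∧
      ∀ H : Subgroup G, H.Characteristic → H ≠ ⊥ → Subgroup.center G ≤ H := by
  obtain ⟨F, hF, hFf, hF2, ⟨Δ⟩⟩ := exists_dat hG htwo hY
  obtain ⟨h1, h2⟩ := Δ.conclusion hna
  have hcen : ∀ x : G, x * x = 1 → x ∈ Subgroup.center G := fun x hx =>
    Subgroup.mem_center_iff.2 fun g => Δ.central hx g
  refine ⟨fun x => ⟨h2 x, hcen x⟩, fun g => hcen _ (h1 g).1, fun g h => hcen _ ((h1 g).2 h),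
    fun H hH hHne x hx => ?_⟩
  obtain ⟨⟨y, hy⟩, hy1⟩ := Subgroup.ne_bot_iff_exists_ne_one.1 hHne
  obtain ⟨j, hj1, hj2⟩ := exists_pow_boundary hG ⊥ (x := y)
    (by simpa using fun e => hy1 (Subtype.ext e))
  rw [Subgroup.mem_bot] at hj1 hj2
  have hHi : Δ.Inv H := fun a ha => by
    have := (Subgroup.characteristic_iff_map_eq.1 hH Δ.α).le
    exact this ⟨a, ha, rfl⟩
  exact Δ.sq_mem_of_inv hHi (pow_mem hy _) hj1 hj2 (h2 x hx)

end Cfsg.Agent.HigmanTransitive
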