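import Cfsg.Agent.Lib.HigmanTransitive.Setup

/-!
# Pure elements of an equivariant family of additive maps

`Pure.decompose`: modulo the kernel, a section acting on the coordinates is generated by elements
acting as `x ↦ c σ x`; `pure_facts`: then `σ ≠ 1` and all coefficients occur.
`bil_eq_zero`: an equivariant alternating pairing of the coordinates vanishes.
-/

set_option autoImplicit false
set_option linter.unusedSectionVars false

namespace Cfsg.Agent.HigmanTransitive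

open Cfsg.Agent.SuzukiTwo

variable {G : Type*} [Group G] [Finite G] {F : Type*} [Field F] [Fintype F] [CharP F 2]

/-- Every additive map is a combination of automorphisms. -/
theorem exists_coeff (f : F →+ F) :
    ∃ c : (F ≃+* F) → F, ∀ x, ∀ [Fintype (F ≃+* F)], f x = ∑ σ, c σ * σ x := by
  classical
  obtain ⟨s, c, hc⟩ := (Cfsg.Agent.S1140.result (F := F)).2.1 f
  refine ⟨fun σ => if σ ∈ s then c σ else 0, fun x => ?_⟩
  intro _
  simp only [hc, ite_mul, zero_mul, Finset.sum_ite_mem, Finset.univ_inter]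

theorem coeff_unique [Fintype (F ≃+* F)] (c d : (F ≃+* F) → F)
    (h : ∀ x, ∑ σ, c σ * σ x = ∑ σ, d σ * σ x) : c = d := by
  refine funext fun σ => sub_eq_zero.1
    (Fintype.linearIndependent_iff.1 (Cfsg.Agent.S1140.result (F := F)).1
      (fun σ => c σ - d σ) (funext fun x => ?_) σ)
  simp [sub_mul, h x]

namespace Dat

variable (Δ : Dat G F)

/-- An equivariant alternating pairing vanishes. -/
theorem bil_eq_zero (f : F → (F →+ F)) (hadd : ∀ x x', f (x + x') = f x + f x')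
    (hmul : ∀ x y, f ((Δ.Λ : F) * x) ((Δ.Λ : F) * y) = (Δ.Λ : F) * f x y)
    (halt : ∀ x, f x x = 0) : ∀ x y, f x y = 0 := by
  classical
  have : Finite (F ≃+* F) := Finite.of_injective _ DFunLike.coe_injective
  let _ := Fintype.ofFinite (F ≃+* F)
  choose π hπ' using fun x => exists_coeff (f x)
  have hπ : ∀ x y, f x y = ∑ σ, π x σ * σ y := fun x y => hπ' x y
  have hne : ∀ a : F ≃+* F, a (Δ.Λ : F) ≠ 0 := fun a => (map_ne_zero a).2 Δ.Λ.ne_zero
  have hπadd : ∀ x x', π (x + x') = π x + π x' := fun x x' => coeff_unique _ _ fun y => by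
    rw [← hπ, hadd, AddMonoidHom.add_apply, hπ, hπ, ← Finset.sum_add_distrib]
    simp [add_mul]
  have hπmul : ∀ x σ, π ((Δ.Λ : F) * x) σ * σ Δ.Λ = (Δ.Λ : F) * π x σ := by
    intro x σ
    refine congrFun (coeff_unique (fun σ => π ((Δ.Λ : F) * x) σ * σ Δ.Λ)
      (fun σ => (Δ.Λ : F) * π x σ) fun y => ?_) σ
    simp only [mul_assoc, ← map_mul]
    rw [← hπ, hmul, hπ, Finset.mul_sum]
  have hsupp : ∀ σ, (∃ x, π x σ ≠ 0) → ∃ ρ : F ≃+* F, ρ (Δ.Λ : F) * σ Δ.Λ = Δ.Λ := by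
    rintro σ ⟨x, hx⟩
    let h : F →+ F := AddMonoidHom.mk' (fun x => π x σ) fun a b => congrFun (hπadd a b) σ
    obtain ⟨e, he'⟩ := exists_coeff h
    have he : ∀ y, h y = ∑ ρ, e ρ * ρ y := fun y => he' y
    have heq : ∀ ρ, e ρ * ρ Δ.Λ * σ Δ.Λ = (Δ.Λ : F) * e ρ := by
      intro ρ
      refine congrFun (coeff_unique (fun ρ => e ρ * ρ Δ.Λ * σ Δ.Λ)
        (fun ρ => (Δ.Λ : F) * e ρ) fun y => ?_) ρ
      simp only [mul_assoc]
      rw [← Finset.mul_sum, ← he]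
      have h1 : ∀ ρ : F ≃+* F, e ρ * (ρ Δ.Λ * (σ Δ.Λ * ρ y)) = e ρ * ρ ((Δ.Λ : F) * y) * σ Δ.Λ :=
        fun ρ => by rw [map_mul]; ring
      simp only [h1]
      rw [← Finset.sum_mul, ← he]
      exact hπmul y σ
    obtain ⟨ρ, hρ⟩ : ∃ ρ, e ρ ≠ 0 := by
      by_contra! hall
      exact hx ((he x).trans (by simp [hall]))
    exact ⟨ρ, mul_left_cancel₀ hρ (by rw [← mul_assoc, heq ρ, mul_comm])⟩
  by_cases hall : ∀ x σ, π x σ = 0
  · intro x y
    simp [hπ, hall]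
  push Not at hall
  obtain ⟨x₁, σ₀, h0⟩ := hall
  obtain ⟨ρ₀, hρ₀⟩ := hsupp σ₀ ⟨x₁, h0⟩
  have honly : ∀ x σ, σ ≠ σ₀ → π x σ = 0 := by
    intro x σ hσ
    by_contra h
    obtain ⟨ρ, hρ⟩ := hsupp σ ⟨x, h⟩
    exact hσ (Δ.pair_eq hρ hρ₀)
  have hform : ∀ x y, f x y = π x σ₀ * σ₀ y := fun x y => by
    rw [hπ, Finset.sum_eq_single σ₀ (fun σ _ hσ => by rw [honly x σ hσ, zero_mul])
      (fun h => absurd (Finset.mem_univ _) h)]
  intro x y
  rw [hform]
  by_cases hx : x = 0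
  · have := hπadd 0 0
    rw [add_zero, left_eq_add] at this
    simp [hx, this]
  · have := halt x
    rw [hform, mul_eq_zero] at this
    rw [this.resolve_right ((map_ne_zero σ₀).2 hx), zero_mul]

/-- `u` acts as `x ↦ c σ x`. -/
def IsPure (Φ : G → (F →+ F)) (σ : F ≃+* F) (u : G) (c : F) : Prop := ∀ x, Φ u x = c * σ x

/-- An equivariant family of additive maps on the coordinates. -/
structure Fam (Δ : Dat G F) (U N : Subgroup G) (Φ : G → (F →+ F)) : Prop where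
  invU : Δ.Inv U
  invN : Δ.Inv N
  map_mul : ∀ g ∈ U, ∀ h ∈ U, Φ (g * h) = Φ g + Φ h
  ker : ∀ g ∈ U, Φ g = 0 ↔ g ∈ N
  equiv : ∀ g ∈ U, ∀ x, Φ (Δ.α g) ((Δ.Λ : F) * x) = (Δ.Λ : F) * Φ g x

variable {Δ}

theorem pure_facts {U N : Subgroup G} {Φ : G → (F →+ F)} (hΦ : Fam Δ U N Φ) {σ : F ≃+* F} {u : G}
    {c : F} (hu : u ∈ U) (hc : c ≠ 0) (hp : IsPure Φ σ u c) :
    σ ≠ RingEquiv.refl F ∧ ∀ c', ∃ u' ∈ U, IsPure Φ σ u' c' := by
  have hσΛ : σ (Δ.Λ : F) ≠ 0 := (map_ne_zero σ).2 Δ.Λ.ne_zero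
  let μ : Fˣ := Δ.Λ / Units.map ((σ : F →+* F) : F →* F) Δ.Λ
  have hμ : (μ : F) = (Δ.Λ : F) / σ Δ.Λ := by simp [μ]
  have hstep : ∀ v c', v ∈ U → IsPure Φ σ v c' → IsPure Φ σ (Δ.α v) ((μ : F) * c') := by
    intro v c' hv hpv x
    have h := hΦ.equiv v hv ((Δ.Λ : F)⁻¹ * x)
    rw [mul_inv_cancel_left₀ (Units.ne_zero _), hpv] at h
    rw [h, hμ, _root_.map_mul, map_inv₀, div_eq_mul_inv]
    ring
  have hpow : ∀ j, IsPure Φ σ ((Δ.α ^ j) u) ((μ : F) ^ j * c) := by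
    intro j
    induction j with
    | zero => simpa using hp
    | succ j ih =>
      rw [pow_succ', MulAut.mul_apply, pow_succ', mul_assoc]
      exact hstep _ _ (hΦ.invU.pow j u hu) ih
  have huN : u ∉ N := fun h => hc (by
    have := hp 1
    rw [(hΦ.ker u hu).2 h] at this
    simpa using this.symm)
  have hfaith : ∀ j : ℕ, μ ^ j = 1 → Δ.Λ ^ j = 1 := by
    intro j hj
    by_contra hne
    refine huN (Δ.mem_of_diff hΦ.invN hne ?_)
    have hju := hΦ.invU.pow j u hu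
    refine (hΦ.ker _ (mul_mem (inv_mem hu) hju)).1 ?_
    have h1 := hΦ.map_mul u hu _ (mul_mem (inv_mem hu) hju)
    rw [mul_inv_cancel_left] at h1
    refine AddMonoidHom.ext fun x => ?_
    have h2 := DFunLike.congr_fun h1 x
    have h3 : ((μ : F) ^ j) = 1 := by rw [← Units.val_pow_eq_pow_val, hj, Units.val_one]
    rw [hpow j, h3, one_mul, AddMonoidHom.add_apply, hp] at h2
    exact left_eq_add.1 h2
  refine ⟨fun h => ?_, ?_⟩
  · have h1 : μ ^ 1 = 1 := by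
      rw [pow_one]
      exact Units.ext (by rw [hμ, h]; simp [div_self Δ.Λ.ne_zero])
    exact Δ.Λ_ne_one (by simpa using hfaith 1 h1)
  · have hle : Subgroup.zpowers μ ≤ Subgroup.zpowers Δ.Λ := by
      rw [Subgroup.zpowers_le]
      obtain ⟨l, -, hl⟩ := Δ.exists_frob σ
      refine div_mem (Subgroup.mem_zpowers _) ?_
      convert pow_mem (Subgroup.mem_zpowers Δ.Λ) (2 ^ l) using 1
      exact Units.ext (by simp [hl])
    have hord : orderOf Δ.Λ ≤ orderOf μ :=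
      Nat.le_of_dvd (orderOf_pos μ) (orderOf_dvd_of_pow_eq_one (hfaith _ (pow_orderOf_eq_one μ)))
    have heq : Δ.Λ ∈ Subgroup.zpowers μ := by
      rw [Subgroup.eq_of_le_of_card_ge hle (by rwa [Nat.card_zpowers, Nat.card_zpowers])]
      exact Subgroup.mem_zpowers _
    obtain ⟨i, hi⟩ := (mem_powers_iff_mem_zpowers.2 heq :)
    have hgen : ∀ R : Subring F, (μ : F) ∈ R → ∀ c, c ∈ R := fun R hR =>
      Δ.gen R (by rw [← hi, Units.val_pow_eq_pow_val]; exact pow_mem hR i)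
    intro c'
    refine eq_univ_of_stable (S := {c' | ∃ u' ∈ U, IsPure Φ σ u' c'}) ⟨1, one_mem U, fun x => ?_⟩
      ?_ ?_ hgen ?_ (show c ∈ {c' | ∃ u' ∈ U, IsPure Φ σ u' c'} from ⟨u, hu, hp⟩) hc c'
    · have := hΦ.map_mul 1 (one_mem U) 1 (one_mem U)
      rw [one_mul, left_eq_add] at this
      simp [this]
    · rintro a ⟨v, hv, hva⟩ b ⟨w, hw, hwb⟩
      exact ⟨v * w, mul_mem hv hw, fun x => by
        rw [hΦ.map_mul v hv w hw, AddMonoidHom.add_apply, hva, hwb, add_mul]⟩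
    · rintro a ⟨v, hv, hva⟩
      exact ⟨v, hv, fun x => by rw [hva, CharTwo.neg_eq]⟩
    · rintro a ⟨v, hv, hva⟩
      exact ⟨Δ.α v, hΦ.invU v hv, hstep v a hv hva⟩

theorem decompose {U N : Subgroup G} {Φ : G → (F →+ F)} (hΦ : Fam Δ U N Φ) (hNU : N ≤ U)
    (Q : G → Prop) (hQN : ∀ a ∈ N, Q a) (hQm : ∀ x ∈ U, ∀ y ∈ U, Q x → Q y → Q (x * y))
    (hQp : ∀ σ u c, u ∈ U → c ≠ 0 → IsPure Φ σ u c → Q u) : ∀ g ∈ U, Q g := by
  classical
  have : Finite (F ≃+* F) := Finite.of_injective _ DFunLike.coe_injective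
  let _ := Fintype.ofFinite (F ≃+* F)
  choose π hπ' using fun g => exists_coeff (Φ g)
  have hπ : ∀ g x, Φ g x = ∑ σ, π g σ * σ x := fun g x => hπ' g x
  have hπadd : ∀ g ∈ U, ∀ h ∈ U, π (g * h) = π g + π h := fun g hg h hh => coeff_unique _ _ fun x => by
    rw [← hπ, hΦ.map_mul g hg h hh, AddMonoidHom.add_apply, hπ, hπ, ← Finset.sum_add_distrib]
    simp [add_mul]
  have hπ0 : ∀ g ∈ U, π g = 0 ↔ g ∈ N := fun g hg => by
    rw [← hΦ.ker g hg]
    constructor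
    · intro h
      ext x
      simp [hπ, h]
    · intro h
      exact coeff_unique _ _ fun x => by rw [← hπ, h]; simp
  have hπk : ∀ g ∈ U, π (Δ.α g) = fun σ : F ≃+* F => (Δ.Λ : F) / σ Δ.Λ * π g σ :=
    fun g hg => coeff_unique _ _ fun x => by
      have h := hΦ.equiv g hg ((Δ.Λ : F)⁻¹ * x)
      rw [mul_inv_cancel_left₀ (Units.ne_zero _), hπ, hπ, Finset.mul_sum] at h
      rw [h]
      refine Finset.sum_congr rfl fun σ _ => ?_
      rw [_root_.map_mul, map_inv₀, div_eq_mul_inv]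
      ring
  let H : AddSubgroup ((F ≃+* F) → F) :=
    { carrier := π '' U
      zero_mem' := ⟨1, one_mem U, (hπ0 1 (one_mem U)).2 (one_mem N)⟩
      add_mem' := by
        rintro _ _ ⟨a, ha, rfl⟩ ⟨b, hb, rfl⟩
        exact ⟨a * b, mul_mem ha hb, hπadd a ha b hb⟩
      neg_mem' := by
        rintro _ ⟨a, ha, rfl⟩
        exact ⟨a, ha, (funext fun σ => (CharTwo.neg_eq (π a σ)).symm)⟩ }
  have hcomp : ∀ g ∈ U, ∀ σ, ∃ u ∈ U, π u = Pi.single σ (π g σ) := by
    intro g hg σ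
    refine components (fun τ : F ≃+* F => (Δ.Λ : F) / τ Δ.Λ) ?_ H ?_ ⟨g, hg, rfl⟩ σ
    · rintro i j ⟨ρ, hρ⟩
      exact Δ.ratio_unique hρ
    · rintro _ ⟨a, ha, rfl⟩
      exact ⟨Δ.α a, hΦ.invU a ha, hπk a ha⟩
  intro g hg
  have hs : ∀ s : Finset (F ≃+* F),
      ∃ u ∈ U, Q u ∧ π u = fun τ => if τ ∈ s then π g τ else 0 := by
    intro s
    induction s using Finset.induction_on with
    | empty =>
      exact ⟨1, one_mem U, hQN 1 (one_mem N),
        by rw [(hπ0 1 (one_mem U)).2 (one_mem N)]; funext τ; simp⟩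
    | @insert σ s hσ ih =>
      obtain ⟨u, huU, hQu, hu⟩ := ih
      obtain ⟨u', hu'U, hu'⟩ := hcomp g hg σ
      have hQ' : Q u' := by
        by_cases hc : π g σ = 0
        · exact hQN u' ((hπ0 u' hu'U).1 (by rw [hu', hc, Pi.single_zero]))
        · refine hQp σ u' _ hu'U hc fun x => ?_
          rw [hπ, hu', Finset.sum_eq_single σ]
          · simp
          · intro b _ hb; simp [Pi.single_eq_of_ne hb]
          · intro h; exact absurd (Finset.mem_univ _) h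
      refine ⟨u * u', mul_mem huU hu'U, hQm _ huU _ hu'U hQu hQ', ?_⟩
      rw [hπadd u huU u' hu'U, hu, hu']
      funext τ
      by_cases hτ : τ = σ
      · subst hτ; simp [hσ]
      · simp [hτ]
  obtain ⟨u, huU, hQu, hu⟩ := hs Finset.univ
  have hgU : u⁻¹ * g ∈ U := mul_mem (inv_mem huU) hg
  have hgN : u⁻¹ * g ∈ N := (hπ0 _ hgU).1 (by
    have e := hπadd u huU (u⁻¹ * g) hgU
    rw [mul_inv_cancel_left, hu] at e
    simpa using e)
  simpa using hQm u huU (u⁻¹ * g) hgU hQu (hQN _ hgN)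

end Dat

end Cfsg.Agent.HigmanTransitive
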