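import Cfsg.Agent.Lib.SuzukiTwo.Basic
import Cfsg.Agent.Lib.SolvableTransitive.Main
import Cfsg.Agent.Lib.HigmanTransitive.Arith
import Cfsg.Agent.S1140

/-!
# 2-groups with a solvable group of automorphisms transitive on the involutions: the data

`Dat G F`: the involutions are central and coordinatised by the field `F`, and an automorphism `α`
of odd order multiplies the coordinates by `Λ`, whose multiplicative group has index dividing
`[F : GF(2)]`; every power of `α` nontrivial on the involutions fixes no element of `G` but `1`.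
`exists_dat`: such data exists (Huppert).
-/

set_option autoImplicit false
set_option linter.style.haveILetI false

namespace Cfsg.Agent.HigmanTransitive

open Cfsg.Agent.SuzukiTwo

/-- Coordinates for the involutions together with a scalar automorphism. -/
structure Dat (G : Type*) [Group G] (F : Type*) [Field F] [Fintype F] where
  n : ℕ
  hn : 2 ≤ n
  hcard : Fintype.card F = 2 ^ n
  pgroup : IsPGroup 2 G
  central : ∀ {x : G}, x * x = 1 → ∀ g, g * x = x * g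
  toF : G → F
  ofF : F → G
  toF_mul : ∀ {x y}, x * x = 1 → y * y = 1 → toF (x * y) = toF x + toF y
  ofF_sq : ∀ c, ofF c * ofF c = 1
  toF_ofF : ∀ c, toF (ofF c) = c
  ofF_toF : ∀ {x}, x * x = 1 → ofF (toF x) = x
  α : MulAut G
  Λ : Fˣ
  toF_α : ∀ {x}, x * x = 1 → toF (α x) = Λ * toF x
  gen : ∀ R : Subring F, (Λ : F) ∈ R → ∀ c, c ∈ R
  d : ℕ
  d_mul : d * orderOf Λ = 2 ^ n - 1
  d_dvd : d ∣ n

variable {G : Type*} [Group G] [Finite G] {F : Type*} [Field F] [Fintype F] [CharP F 2]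

/-- Invariance under the automorphism. -/
def Dat.Inv (Δ : Dat G F) (H : Subgroup G) : Prop := ∀ x ∈ H, Δ.α x ∈ H

namespace Dat

variable (Δ : Dat G F)

omit [Finite G] [CharP F 2] in
theorem toF_one : Δ.toF 1 = 0 := by
  have := Δ.toF_mul (one_mul (1 : G)) (one_mul (1 : G))
  rwa [one_mul, eq_comm, add_eq_left] at this

omit [Finite G] [CharP F 2] in
theorem toF_inj {x y : G} (hx : x * x = 1) (hy : y * y = 1) (h : Δ.toF x = Δ.toF y) : x = y := by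
  rw [← Δ.ofF_toF hx, h, Δ.ofF_toF hy]

omit [Finite G] [CharP F 2] in
theorem toF_eq_zero {x : G} (hx : x * x = 1) : Δ.toF x = 0 ↔ x = 1 :=
  ⟨fun h => Δ.toF_inj hx (one_mul 1) (h.trans Δ.toF_one.symm), fun h => h ▸ Δ.toF_one⟩

omit [Finite G] [CharP F 2] in
theorem ofF_zero : Δ.ofF 0 = 1 := by rw [← Δ.toF_one, Δ.ofF_toF (one_mul 1)]

omit [Finite G] [CharP F 2] in
theorem ofF_add (a b : F) : Δ.ofF (a + b) = Δ.ofF a * Δ.ofF b := by
  have h : (Δ.ofF a * Δ.ofF b) * (Δ.ofF a * Δ.ofF b) = 1 := by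
    rw [Commute.mul_mul_mul_comm (Δ.central (Δ.ofF_sq a) (Δ.ofF b) : Commute (Δ.ofF b) (Δ.ofF a)),
      Δ.ofF_sq, Δ.ofF_sq, one_mul]
  rw [← Δ.ofF_toF h, Δ.toF_mul (Δ.ofF_sq a) (Δ.ofF_sq b), Δ.toF_ofF, Δ.toF_ofF]

omit [Finite G] [CharP F 2] in
theorem α_ofF (c : F) : Δ.α (Δ.ofF c) = Δ.ofF (Δ.Λ * c) := by
  have h : Δ.α (Δ.ofF c) * Δ.α (Δ.ofF c) = 1 := by rw [← map_mul, Δ.ofF_sq, map_one]
  rw [← Δ.ofF_toF h, Δ.toF_α (Δ.ofF_sq c), Δ.toF_ofF]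

omit [Finite G] [CharP F 2] in
theorem sq_α {x : G} (hx : x * x = 1) : Δ.α x * Δ.α x = 1 := by rw [← map_mul, hx, map_one]

omit [Finite G] [CharP F 2] in
theorem toF_α_pow {x : G} (hx : x * x = 1) (j : ℕ) :
    Δ.toF ((Δ.α ^ j) x) = (Δ.Λ : F) ^ j * Δ.toF x ∧ (Δ.α ^ j) x * (Δ.α ^ j) x = 1 := by
  refine ⟨?_, by rw [← map_mul, hx, map_one]⟩
  induction j with
  | zero => simp
  | succ j ih =>
    rw [pow_succ', MulAut.mul_apply, Δ.toF_α (by rw [← map_mul, hx, map_one]), ih, pow_succ']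
    ring

omit [Finite G] [CharP F 2] in
theorem Inv.pow {Δ : Dat G F} {H : Subgroup G} (hH : Δ.Inv H) :
    ∀ j : ℕ, ∀ x ∈ H, (Δ.α ^ j) x ∈ H := by
  intro j
  induction j with
  | zero => intro x hx; simpa using hx
  | succ j ih => intro x hx; rw [pow_succ', MulAut.mul_apply]; exact hH _ (ih x hx)

omit [CharP F 2] in
theorem semireg {j : ℕ} (hj : Δ.Λ ^ j ≠ 1) {x : G} (hx : (Δ.α ^ j) x = x) : x = 1 := by
  by_contra hx1
  obtain ⟨i, hi1, hi2⟩ := exists_pow_boundary Δ.pgroup ⊥ (x := x) (by simpa using hx1)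
  rw [Subgroup.mem_bot] at hi1 hi2
  refine hj (Units.ext ?_)
  have h := (Δ.toF_α_pow hi2 j).1
  rw [map_pow, hx] at h
  have hne : Δ.toF (x ^ 2 ^ i) ≠ 0 := fun h0 => hi1 ((Δ.toF_eq_zero hi2).1 h0)
  have : ((Δ.Λ : F) ^ j) * Δ.toF (x ^ 2 ^ i) = 1 * Δ.toF (x ^ 2 ^ i) := by rw [← h, one_mul]
  simpa using mul_right_cancel₀ hne this

omit [CharP F 2] in
theorem mem_of_diff {N : Subgroup G} (hN : Δ.Inv N) {j : ℕ} (hj : Δ.Λ ^ j ≠ 1) {x : G}
    (hx : x⁻¹ * (Δ.α ^ j) x ∈ N) : x ∈ N := by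
  let f : N → N := fun m => ⟨(m : G)⁻¹ * (Δ.α ^ j) m, mul_mem (inv_mem m.2) (hN.pow j _ m.2)⟩
  have key : ∀ a b : G, a⁻¹ * (Δ.α ^ j) a = b⁻¹ * (Δ.α ^ j) b → a = b := by
    intro a b h
    refine mul_inv_eq_one.1 (Δ.semireg hj ?_)
    rw [map_mul, map_inv, (inv_mul_eq_iff_eq_mul.1 h : (Δ.α ^ j) a = _)]
    simp [mul_assoc]
  have hinj : Function.Injective f := fun a b h => Subtype.ext (key _ _ (congrArg Subtype.val h))
  obtain ⟨m, hm⟩ := Finite.surjective_of_injective hinj ⟨_, hx⟩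
  rw [← key _ _ (congrArg Subtype.val hm)]
  exact m.2

omit [Finite G] [CharP F 2] in
theorem Λ_ne_one : Δ.Λ ≠ 1 := by
  intro h
  have h1 := Δ.d_mul
  rw [h, orderOf_one, mul_one] at h1
  have h2 := Nat.le_of_dvd (lt_of_lt_of_le two_pos Δ.hn) Δ.d_dvd
  have h3 : ∀ m, 2 ≤ m → m + 1 < 2 ^ m := by
    intro m hm
    induction m, hm using Nat.le_induction with
    | base => norm_num
    | succ m _ ih => rw [pow_succ]; omega
  have := h3 Δ.n Δ.hn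
  omega

omit [Finite G] [CharP F 2] in
/-- An additive set stable under `Λ` and containing a nonzero element is everything. -/
theorem eq_univ_of_stable {S : Set F} (h0 : (0 : F) ∈ S) (hadd : ∀ a ∈ S, ∀ b ∈ S, a + b ∈ S)
    (hneg : ∀ a ∈ S, -a ∈ S) {μ : F} (hgen : ∀ R : Subring F, μ ∈ R → ∀ c, c ∈ R)
    (hμ : ∀ a ∈ S, μ * a ∈ S) {a : F} (ha : a ∈ S) (ha0 : a ≠ 0) (c : F) : c ∈ S := by
  let R : Subring F :=
    { carrier := {r | ∀ s ∈ S, r * s ∈ S}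
      one_mem' := fun s hs => by rwa [one_mul]
      mul_mem' := fun {r t} hr ht s hs => by rw [mul_assoc]; exact hr _ (ht s hs)
      zero_mem' := fun s _ => by rwa [zero_mul]
      add_mem' := fun {r t} hr ht s hs => by rw [add_mul]; exact hadd _ (hr s hs) _ (ht s hs)
      neg_mem' := fun {r} hr s hs => by rw [neg_mul]; exact hneg _ (hr s hs) }
  have := hgen R hμ (c / a) a ha
  rwa [div_mul_cancel₀ c ha0] at this

omit [Finite G] in
/-- Irreducibility on the involutions. -/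
theorem sq_mem_of_inv {H : Subgroup G} (hH : Δ.Inv H) {z : G} (hz : z ∈ H) (hz1 : z ≠ 1)
    (hz2 : z * z = 1) {w : G} (hw : w * w = 1) : w ∈ H := by
  have := eq_univ_of_stable (S := {c | Δ.ofF c ∈ H}) (by simp [Δ.ofF_zero])
    (fun a ha b hb => by simpa [Δ.ofF_add] using mul_mem ha hb)
    (fun a ha => by rwa [CharTwo.neg_eq]) Δ.gen
    (fun a ha => by simpa [Δ.α_ofF] using hH _ ha)
    (show Δ.toF z ∈ {c | Δ.ofF c ∈ H} by simpa [Δ.ofF_toF hz2] using hz)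
    (fun h => hz1 ((Δ.toF_eq_zero hz2).1 h)) (Δ.toF w)
  simpa [Δ.ofF_toF hw] using this

omit [Finite G] [CharP F 2] in
theorem ringEquiv_eq_refl {σ : F ≃+* F} (h : σ Δ.Λ = Δ.Λ) : σ = RingEquiv.refl F :=
  RingEquiv.ext fun c => Δ.gen (RingHom.eqLocus (σ : F →+* F) (RingHom.id F)) h c

omit [Finite G] in
theorem exists_frob (σ : F ≃+* F) : ∃ l < Δ.n, ∀ x, σ x = x ^ 2 ^ l :=
  exists_frobenius_pow Δ.hcard σ

omit [Finite G] [Fintype F] [CharP F 2] in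
theorem _root_.Cfsg.Agent.HigmanTransitive.frob_unique {σ τ : F ≃+* F} {l : ℕ} (hσ : ∀ x, σ x = x ^ 2 ^ l)
    (hτ : ∀ x, τ x = x ^ 2 ^ l) : σ = τ := RingEquiv.ext fun x => by rw [hσ, hτ]

omit [Finite G] in
/-- The scalars `Λ / σ Λ` are pairwise non-conjugate. -/
theorem ratio_unique {σ τ ρ : F ≃+* F} (h : ρ ((Δ.Λ : F) / τ Δ.Λ) = (Δ.Λ : F) / σ Δ.Λ) : σ = τ := by
  obtain ⟨l, hl, hσ⟩ := Δ.exists_frob σ
  obtain ⟨l', hl', hτ⟩ := Δ.exists_frob τ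
  obtain ⟨r, hr, hρ⟩ := Δ.exists_frob ρ
  have hne : ∀ a : F ≃+* F, a (Δ.Λ : F) ≠ 0 := fun a => (map_ne_zero a).2 Δ.Λ.ne_zero
  rw [map_div₀, div_eq_div_iff ((map_ne_zero ρ).2 (hne τ)) (hne σ), hρ, hρ, hτ, hσ, ← pow_mul,
    ← pow_add, ← pow_add, ← pow_succ'] at h
  have h1 : 2 ^ r + 2 ^ l ≡ 1 + 2 ^ ((l' + r) % Δ.n) [MOD orderOf Δ.Λ] := by
    have h2 : 2 ^ r + 2 ^ l ≡ 2 ^ (l' + r) + 1 [MOD orderOf Δ.Λ] :=
      pow_eq_pow_iff_modEq.1 (Units.ext (by push_cast; exact h))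
    refine h2.trans ?_
    rw [add_comm _ 1]
    exact (((two_pow_modEq_mod Δ.n _).of_dvd ⟨Δ.d, by rw [← Δ.d_mul, mul_comm]⟩)).add_left 1
  exact frob_unique hσ (conj_unique Δ.hn Δ.d_mul Δ.d_dvd hr hl hl' h1 ▸ hτ)

omit [Finite G] in
/-- Only one Frobenius power can pair into the identity character. -/
theorem pair_eq {σ τ ρ ρ' : F ≃+* F} (h : ρ (Δ.Λ : F) * σ Δ.Λ = Δ.Λ)
    (h' : ρ' (Δ.Λ : F) * τ Δ.Λ = Δ.Λ) : σ = τ := by
  have key : ∀ σ ρ : F ≃+* F, ρ (Δ.Λ : F) * σ Δ.Λ = Δ.Λ → ∀ x, σ x = x ^ 2 ^ (Δ.n - 1) := by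
    intro σ ρ h
    obtain ⟨l, hl, hσ⟩ := Δ.exists_frob σ
    obtain ⟨r, hr, hρ⟩ := Δ.exists_frob ρ
    rw [hρ, hσ, ← pow_add] at h
    have h1 : 2 ^ r + 2 ^ l ≡ 1 [MOD orderOf Δ.Λ] :=
      pow_eq_pow_iff_modEq.1 (Units.ext (by push_cast; rw [pow_one]; exact h))
    rw [← pair_unique Δ.hn Δ.d_mul Δ.d_dvd hr hl h1]
    exact hσ
  exact frob_unique (key σ ρ h) (key τ ρ' h')

end Dat

end Cfsg.Agent.HigmanTransitive
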